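import Mathlib
import Cfsg.Agent.Lib.Helper24.Coprime
import Cfsg.Agent.Lib.Helper24.SpecialGroup
import Cfsg.Agent.Lib.Helper64.MetaB
import Cfsg.Agent.S0638
import Cfsg.Agent.S4584

/-!
# Coprime action on metacyclic `p`-groups, `p` odd

* `mem_of_inv_mul_mem` : norm trick: if `G = [G, A]` (coprime), `N ≥ G'` and `x⁻¹ a(x) ∈ N` for all
  `a ∈ A`, then `x ∈ N`.
* `le_of_index_sq` : index counting above a subgroup of index `p ^ 2`.
* `false_of_card_commutator` : a metacyclic `p`-group (`p` odd) with derived subgroup of order `p`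
  is not of the form `[R, A]` for a coprime `A`.
* `commutative_of_coprime` : a metacyclic `p`-group (`p` odd) with `R = [R, A]`, `A` coprime, is
  abelian.
-/

set_option autoImplicit false

open Cfsg

namespace Cfsg.Agent.Lib.Helper24.MetaCoprime

open Cfsg.Agent.Lib.Helper24.SpecialGroup
open scoped commutatorElement

variable {G : Type*} [Group G]

/-- Norm trick: under a coprime action with `G = [G, A]`, an element which is fixed by `A` modulo
a subgroup `N` containing the derived subgroup lies in `N`. -/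
theorem mem_of_inv_mul_mem [Finite G] {p : ℕ} (hG : IsPGroup p G)
    (A : Subgroup (MulAut G)) (hA : (Nat.card A).Coprime p)
    (hGA : Subgroup.closure {x : G | ∃ g : G, ∃ a ∈ A, x = g⁻¹ * a g} = ⊤)
    (N : Subgroup G) (hN : commutator G ≤ N) (x : G)
    (hx : ∀ a ∈ A, x⁻¹ * a x ∈ N) : x ∈ N := by
  classical
  haveI : Fintype A := Fintype.ofFinite A
  let θ : G →* Abelianization G :=
    MonoidHom.mk' (fun g => ∏ a : A, Abelianization.of ((a : MulAut G) g)) (by
      intro g h
      simp only [map_mul]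
      rw [Finset.prod_mul_distrib])
  have hθ : ∀ g, θ g = ∏ a : A, Abelianization.of ((a : MulAut G) g) := fun g => rfl
  have hinv : ∀ (b : A) (g : G), θ ((b : MulAut G) g) = θ g := by
    intro b g
    rw [hθ, hθ]
    exact Fintype.prod_equiv (Equiv.mulRight b) _ _ (fun a => by simp [MulAut.mul_apply])
  have hker : Subgroup.closure {x : G | ∃ g : G, ∃ a ∈ A, x = g⁻¹ * a g} ≤ θ.ker := by
    rw [Subgroup.closure_le]
    rintro y ⟨g, a, ha, rfl⟩
    rw [SetLike.mem_coe, MonoidHom.mem_ker, map_mul, map_inv, hinv ⟨a, ha⟩ g, inv_mul_cancel]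
  rw [hGA] at hker
  have h1 : θ x = 1 := MonoidHom.mem_ker.mp (hker (Subgroup.mem_top x))
  have h2 : θ x = Abelianization.of (x ^ Nat.card A) *
      ∏ a : A, Abelianization.of (x⁻¹ * (a : MulAut G) x) := by
    rw [hθ, map_pow, Nat.card_eq_fintype_card, ← Finset.card_univ, ← Finset.prod_const,
      ← Finset.prod_mul_distrib]
    refine Finset.prod_congr rfl (fun a _ => ?_)
    rw [← map_mul, mul_inv_cancel_left]
  have h3 : ∏ a : A, Abelianization.of (x⁻¹ * (a : MulAut G) x) ∈ N.map Abelianization.of :=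
    Subgroup.prod_mem _ (fun a _ => Subgroup.mem_map_of_mem _ (hx a a.2))
  have h4 : Abelianization.of (x ^ Nat.card A) ∈ N.map Abelianization.of := by
    have : Abelianization.of (x ^ Nat.card A) =
        (∏ a : A, Abelianization.of (x⁻¹ * (a : MulAut G) x))⁻¹ := by
      rw [eq_inv_iff_mul_eq_one, ← h2, h1]
    rw [this]
    exact Subgroup.inv_mem _ h3
  have h5 : x ^ Nat.card A ∈ N := by
    obtain ⟨n, hn, hne⟩ := Subgroup.mem_map.mp h4
    have h6 : n⁻¹ * x ^ Nat.card A ∈ commutator G := by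
      rw [← Abelianization.ker_of, MonoidHom.mem_ker, map_mul, map_inv, hne, inv_mul_cancel]
    have := N.mul_mem hn (hN h6)
    simpa using this
  obtain ⟨k, hk⟩ := hG x
  have hcop : IsCoprime (Nat.card A : ℤ) ((p ^ k : ℕ) : ℤ) :=
    Nat.isCoprime_iff_coprime.mpr (Nat.Coprime.pow_right k hA)
  obtain ⟨u, v, huv⟩ := hcop
  have hxe : x = (x ^ Nat.card A) ^ u * (x ^ (p ^ k)) ^ v := by
    rw [← zpow_natCast, ← zpow_natCast, ← zpow_mul, ← zpow_mul, ← zpow_add,
      mul_comm _ u, mul_comm _ v, huv, zpow_one]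
  rw [hxe, hk, one_zpow, mul_one]
  exact Subgroup.zpow_mem _ h5 u

/-- Index counting: if `Z ≤ D ≤ B` in a finite `p`-group with `Z` of index `p ^ 2`, `Z ≠ D` and
`B` proper, then `B = D`. -/
theorem le_of_index_sq [Finite G] {p : ℕ} [Fact p.Prime] (hG : IsPGroup p G)
    (Z D B : Subgroup G) (hZD : Z ≤ D) (hDB : D ≤ B) (hZ : Z.index = p ^ 2)
    (hne : ∃ x ∈ D, x ∉ Z) (hB : B ≠ ⊤) : B ≤ D := by
  have hp : p.Prime := Fact.out
  have hcard : Nat.card Z * p ^ 2 = Nat.card G := by rw [← hZ]; exact Z.card_mul_index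
  obtain ⟨z, hz⟩ := (hG.to_subgroup Z).exists_card_eq
  obtain ⟨d, hd⟩ := (hG.to_subgroup D).exists_card_eq
  obtain ⟨b, hb⟩ := (hG.to_subgroup B).exists_card_eq
  have hn : Nat.card G = p ^ (z + 2) := by rw [← hcard, hz, pow_add]
  have hzd : z < d := by
    have hle : Nat.card Z ≤ Nat.card D := Subgroup.card_le_of_le hZD
    rw [hz, hd] at hle
    have hzd' : z ≤ d := (Nat.pow_le_pow_iff_right hp.one_lt).mp hle
    rcases hzd'.lt_or_eq with h | h
    · exact h
    · exfalso
      obtain ⟨x, hxD, hxZ⟩ := hne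
      have : Z = D := Subgroup.eq_of_le_of_card_ge hZD (by rw [hz, hd, h])
      exact hxZ (this ▸ hxD)
  have hbn : b < z + 2 := by
    by_contra hcon
    push_neg at hcon
    apply hB
    apply Subgroup.eq_top_of_card_eq
    apply le_antisymm (Subgroup.card_le_card_group B)
    rw [hn, hb]
    exact Nat.pow_le_pow_right hp.pos hcon
  exact le_of_eq (Subgroup.eq_of_le_of_card_ge hDB (by
    rw [hb, hd]; exact Nat.pow_le_pow_right hp.pos (by omega))).symm

section Min

variable {R : Type*} [Group R] [Finite R] {p : ℕ} [Fact p.Prime]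

theorem comm_le_center (hR : IsPGroup p R) (hc : Nat.card (commutator R) = p) :
    commutator R ≤ Subgroup.center R :=
  Cfsg.Agent.S4584.le_center_of_normal_of_card_eq_prime hR _ hc

theorem comm_pow (hc : Nat.card (commutator R) = p) : ∀ c ∈ commutator R, c ^ p = 1 := by
  intro c hcc
  have h := pow_card_eq_one' (G := commutator R) (x := ⟨c, hcc⟩)
  rw [hc] at h
  have := congrArg Subtype.val h
  simpa using this

theorem comm_mem (x y : R) : ⁅x, y⁆ ∈ commutator R :=
  Subgroup.commutator_mem_commutator (Subgroup.mem_top x) (Subgroup.mem_top y)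

theorem pow_mem_center (hR : IsPGroup p R) (hc : Nat.card (commutator R) = p) (y : R) :
    y ^ p ∈ Subgroup.center R := by
  rw [Subgroup.mem_center_iff]
  intro x
  have h1 : ⁅y ^ p, x⁆ = 1 := by
    rw [commutator_pow_left y x
      ((Subgroup.mem_center_iff.mp (comm_le_center hR hc (comm_mem y x)) y).symm) p]
    exact comm_pow hc _ (comm_mem y x)
  rw [commutatorElement_eq_one_iff_mul_comm] at h1
  exact h1.symm

theorem exists_powHom (hp : p ≠ 2) (hR : IsPGroup p R)
    (hc : Nat.card (commutator R) = p) (j : ℕ) :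
    ∃ f : R →* R, ∀ x, f x = x ^ (p ^ j) := by
  have hcz := comm_le_center hR hc
  have hπ : ∃ π : R →* R, ∀ x, π x = x ^ p := by
    refine ⟨MonoidHom.mk' (fun x => x ^ p) (fun x y => ?_), fun x => rfl⟩
    apply Cfsg.Agent.Lib.Helper24.Coprime.mul_pow_prime_of_central p hp
    · have : y⁻¹ * x⁻¹ * y * x = ⁅y⁻¹, x⁻¹⁆ := by simp [commutatorElement_def]
      rw [this]
      exact (Subgroup.mem_center_iff.mp (hcz (comm_mem _ _)) x).symm
    · have : y⁻¹ * x⁻¹ * y * x = ⁅y⁻¹, x⁻¹⁆ := by simp [commutatorElement_def]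
      rw [this]
      exact (Subgroup.mem_center_iff.mp (hcz (comm_mem _ _)) y).symm
    · exact (Subgroup.mem_center_iff.mp (pow_mem_center hR hc y) x).symm
  obtain ⟨π, hπ⟩ := hπ
  induction j with
  | zero => exact ⟨MonoidHom.id R, fun x => by simp⟩
  | succ j ih =>
    obtain ⟨f, hf⟩ := ih
    exact ⟨π.comp f, fun x => by rw [MonoidHom.comp_apply, hf, hπ, ← pow_mul, ← pow_succ]⟩

theorem not_comm (hc : Nat.card (commutator R) = p) : ¬ ∀ x y : R, x * y = y * x := by
  intro hab
  have hpp : p.Prime := Fact.out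
  have : commutator R = ⊥ := by
    rw [eq_bot_iff, commutator_def, Subgroup.commutator_le]
    intro x _ y _
    rw [Subgroup.mem_bot, commutatorElement_eq_one_iff_mul_comm]
    exact hab x y
  rw [this, Subgroup.card_bot] at hc
  exact hpp.one_lt.ne hc

theorem center_structure (hp : p ≠ 2) (hR : IsPGroup p R) (hm : Cfsg.IsMetacyclic R)
    (hc : Nat.card (commutator R) = p) :
    (Subgroup.center R).index = p ^ 2 ∧ ∀ ζ ∈ Subgroup.center R, ∃ t : R, ζ = t ^ p := by
  have hpp : p.Prime := Fact.out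
  obtain ⟨π, hπ⟩ := exists_powHom hp hR hc 1
  simp only [pow_one] at hπ
  have hnc : ¬ IsCyclic R := by
    intro hcyc
    apply not_comm hc
    obtain ⟨g, hg⟩ := IsCyclic.exists_generator (α := R)
    intro x y
    obtain ⟨i, rfl⟩ := Subgroup.mem_zpowers_iff.mp (hg x)
    obtain ⟨j, rfl⟩ := Subgroup.mem_zpowers_iff.mp (hg y)
    exact (Commute.zpow_zpow_self g i j).eq
  obtain ⟨-, hΩ⟩ := Cfsg.Agent.S0638.result hp hR hm hnc
  have hker : Cfsg.omegaOne p (⊤ : Subgroup R) = π.ker := by
    apply le_antisymm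
    · unfold Cfsg.omegaOne
      rw [Subgroup.closure_le]
      rintro x ⟨-, hx⟩
      rw [SetLike.mem_coe, MonoidHom.mem_ker, hπ, hx]
    · intro x hx
      rw [MonoidHom.mem_ker, hπ] at hx
      exact Subgroup.subset_closure ⟨Subgroup.mem_top x, hx⟩
  rw [hker] at hΩ
  have hidx : π.range.index = p ^ 2 := by
    have h1 := Subgroup.index_ker π
    have h2 := π.ker.card_mul_index
    have h3 := π.range.card_mul_index
    rw [hΩ, h1] at h2
    have hpos : 0 < Nat.card π.range := Nat.card_pos
    have : Nat.card π.range * π.range.index = Nat.card π.range * p ^ 2 := by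
      rw [h3, ← h2, mul_comm]
    exact Nat.eq_of_mul_eq_mul_left hpos this
  have hle : π.range ≤ Subgroup.center R := by
    rintro _ ⟨y, rfl⟩
    rw [hπ]
    exact pow_mem_center hR hc y
  have heq : Subgroup.center R ≤ π.range := by
    by_contra hcon
    obtain ⟨g, hgZ, hgΦ⟩ := SetLike.not_le_iff_exists.mp hcon
    apply not_comm hc
    intro x y
    by_contra hxy
    have hCtop : Subgroup.centralizer {x} ≠ ⊤ := by
      intro htop
      have : y ∈ Subgroup.centralizer {x} := htop ▸ Subgroup.mem_top y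
      rw [Subgroup.mem_centralizer_iff] at this
      exact hxy (this x rfl)
    have := le_of_index_sq hR π.range (Subgroup.center R) (Subgroup.centralizer {x}) hle
      (Subgroup.center_le_centralizer _) hidx ⟨g, hgZ, hgΦ⟩ hCtop
    have hx : x ∈ Subgroup.center R :=
      this (Subgroup.mem_centralizer_iff.mpr (fun h hh => by rw [Set.mem_singleton_iff.mp hh]))
    exact hxy (Subgroup.mem_center_iff.mp hx y).symm
  have hZ : Subgroup.center R = π.range := le_antisymm heq hle
  refine ⟨hZ ▸ hidx, fun ζ hζ => ?_⟩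
  obtain ⟨t, ht⟩ := heq hζ
  exact ⟨t, by rw [← ht, hπ]⟩

/-- A metacyclic `p`-group, `p` odd, with derived subgroup of order `p` is not of the form
`[R, A]` for a group `A` of automorphisms of order prime to `p`. -/
theorem false_of_card_commutator (hp : p ≠ 2) (hR : IsPGroup p R) (hm : Cfsg.IsMetacyclic R)
    (hc : Nat.card (commutator R) = p) (A : Subgroup (MulAut R)) (hA : (Nat.card A).Coprime p)
    (hRA : Subgroup.closure {x : R | ∃ g : R, ∃ a ∈ A, x = g⁻¹ * a g} = ⊤) : False := by
  have hpp : p.Prime := Fact.out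
  have hcz := comm_le_center hR hc
  have hcp := comm_pow (R := R) hc
  have hcomm : ∀ x y : R, ⁅x, y⁆ ∈ commutator R := comm_mem
  have hcen : ∀ x y g : R, ⁅x, y⁆ * g = g * ⁅x, y⁆ := fun x y g =>
    (Subgroup.mem_center_iff.mp (hcz (hcomm x y)) g).symm
  obtain ⟨hZidx, hZpow⟩ := center_structure hp hR hm hc
  have hbl : ∀ x y t : R, ⁅x * y, t⁆ = ⁅x, t⁆ * ⁅y, t⁆ := by
    intro x y t
    have : ⁅x * y, t⁆ = x * ⁅y, t⁆ * x⁻¹ * ⁅x, t⁆ := by
      simp only [commutatorElement_def]; group
    rw [this, ← hcen y t x, mul_inv_cancel_right]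
    exact hcen y t _
  have hbr : ∀ x y t : R, ⁅x, y * t⁆ = ⁅x, y⁆ * ⁅x, t⁆ := by
    intro x y t
    rw [← commutatorElement_inv (y * t) x, hbl, mul_inv_rev, commutatorElement_inv,
      commutatorElement_inv]
    exact hcen x t _
  have hpl : ∀ (x y : R) (n : ℕ), ⁅x ^ n, y⁆ = ⁅x, y⁆ ^ n := fun x y n =>
    commutator_pow_left x y (hcen x y x) n
  have hinvr : ∀ x y : R, ⁅x, y⁻¹⁆ = ⁅x, y⁆⁻¹ := by
    intro x y
    have := hbr x y y⁻¹
    rw [mul_inv_cancel, commutatorElement_one_right] at this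
    exact (eq_inv_of_mul_eq_one_right this.symm)
  obtain ⟨z, hzc, hz1⟩ : ∃ z ∈ commutator R, z ≠ 1 := by
    by_contra hcon
    push_neg at hcon
    have : commutator R = ⊥ := (Subgroup.eq_bot_iff_forall _).mpr hcon
    rw [this, Subgroup.card_bot] at hc
    exact hpp.one_lt.ne hc
  have hzgen : ∀ c ∈ commutator R, ∃ k : ℕ, c = z ^ k := by
    intro c hcc
    have := mem_powers_of_prime_card (G := commutator R) hc (g := ⟨z, hzc⟩) (g' := ⟨c, hcc⟩)
      (by intro h; exact hz1 (congrArg Subtype.val h))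
    obtain ⟨k, hk⟩ := (Submonoid.mem_powers_iff _ _).mp this
    exact ⟨k, by have := congrArg Subtype.val hk; simpa using this.symm⟩
  have hact : ∀ a ∈ A, ∃ l : ℕ, (∀ c ∈ commutator R, a c = c ^ l) ∧
      ∀ c ∈ commutator R, c ^ l = 1 → c = 1 := by
    intro a ha
    have hchar : (commutator R).Characteristic := by rw [commutator_def]; infer_instance
    have hazc : a z ∈ commutator R := by
      have h := hchar.fixed a
      rw [← h] at hzc
      exact hzc
    obtain ⟨l, hl⟩ := hzgen _ hazc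
    have hlp : ¬ p ∣ l := by
      rintro ⟨m, rfl⟩
      rw [pow_mul, hcp z hzc, one_pow] at hl
      exact hz1 (by simpa using hl)
    refine ⟨l, fun c hcc => ?_, fun c hcc hcl => ?_⟩
    · obtain ⟨k, rfl⟩ := hzgen c hcc
      rw [map_pow, hl, ← pow_mul, ← pow_mul, mul_comm]
    · have := (pow_gcd_eq_one (a := c) (m := l) (n := p)).mpr ⟨hcl, hcp c hcc⟩
      rwa [(Nat.Coprime.symm ((Nat.Prime.coprime_iff_not_dvd hpp).mpr hlp)).gcd_eq_one,
        pow_one] at this
  obtain ⟨n, hn⟩ := hR.exists_card_eq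
  have hex : ∃ j, ∀ t : R, z ≠ t ^ (p ^ j) :=
    ⟨n, fun t h => hz1 (by rw [h, ← hn, pow_card_eq_one'])⟩
  classical
  have hfind := Nat.find_spec hex
  have hmin := fun m => Nat.find_min hex (m := m)
  have h0 : Nat.find hex ≠ 0 := by
    intro h0
    rw [h0] at hfind
    exact hfind z (by simp)
  have h1 : Nat.find hex ≠ 1 := by
    intro h1
    rw [h1] at hfind
    obtain ⟨t, ht⟩ := hZpow z (hcz hzc)
    exact hfind t (by simpa using ht)
  obtain ⟨i, hi⟩ : ∃ i, Nat.find hex = i + 1 := ⟨Nat.find hex - 1, by omega⟩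
  have hui : ∃ u, z = u ^ (p ^ i) := by
    have := hmin i (by omega)
    push_neg at this
    exact this
  obtain ⟨u, hu⟩ := hui
  rw [hi] at hfind
  obtain ⟨f, hf⟩ := exists_powHom hp hR hc i
  obtain ⟨f', hf'⟩ := exists_powHom hp hR hc (i + 1)
  obtain ⟨B, hB⟩ : ∃ B : Subgroup R, B = Subgroup.comap f f'.range := ⟨_, rfl⟩
  have hZB : Subgroup.center R ≤ B := by
    intro ζ hζ
    obtain ⟨t, rfl⟩ := hZpow ζ hζ
    rw [hB, Subgroup.mem_comap]
    exact ⟨t, by rw [hf, hf', ← pow_mul, pow_succ']⟩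
  have huB : u ∉ B := by
    intro huB
    rw [hB, Subgroup.mem_comap] at huB
    obtain ⟨t, ht⟩ := huB
    rw [hf, hf', ← hu] at ht
    exact hfind t ht.symm
  have hBtop : B ≠ ⊤ := fun h => huB (h ▸ Subgroup.mem_top u)
  have hkerB : f.ker ≤ B := by
    intro x hx
    rw [hB, Subgroup.mem_comap, MonoidHom.mem_ker.mp hx]
    exact Subgroup.one_mem _
  have hBinv : ∀ a ∈ A, ∀ x ∈ B, a x ∈ B := by
    intro a ha x hx
    rw [hB, Subgroup.mem_comap] at hx ⊢
    obtain ⟨t, ht⟩ := hx
    refine ⟨a t, ?_⟩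
    rw [hf', ← map_pow, ← hf', ht, hf, hf, map_pow]
  have key : ∀ a ∈ A, ∀ g : R, (∀ w ∈ f.ker, w * a g = a g * w) → ⁅u, g⁻¹ * a g⁆ = 1 := by
    intro a ha g hw
    obtain ⟨l, hl, hl1⟩ := hact a ha
    have hwk : a u * (u ^ l)⁻¹ ∈ f.ker := by
      rw [MonoidHom.mem_ker, map_mul, map_inv, hf, hf, ← map_pow, ← hu, ← pow_mul, mul_comm l,
        pow_mul, ← hu, hl z hzc, mul_inv_cancel]
    have e1 : a u = (a u * (u ^ l)⁻¹) * u ^ l := by group
    have e2 : ⁅a u, a g⁆ = ⁅u, a g⁆ ^ l := by
      rw [e1, hbl, hpl]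
      have : ⁅a u * (u ^ l)⁻¹, a g⁆ = 1 := by
        rw [commutatorElement_eq_one_iff_mul_comm]
        exact hw _ hwk
      rw [this, one_mul]
    have e3 : ⁅a u, a g⁆ = ⁅u, g⁆ ^ l := by
      rw [← map_commutatorElement, hl _ (hcomm u g)]
    have e4 : (⁅u, g⁆⁻¹ * ⁅u, a g⁆) ^ l = 1 := by
      have hcm : Commute (⁅u, g⁆⁻¹) (⁅u, a g⁆) :=
        (show Commute ⁅u, g⁆ ⁅u, a g⁆ from hcen u g _).inv_left
      rw [hcm.mul_pow, inv_pow, ← e2, e3, inv_mul_cancel]
    rw [hbr, hinvr]
    exact hl1 _ (Subgroup.mul_mem _ (Subgroup.inv_mem _ (hcomm u g)) (hcomm u _)) e4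
  by_cases hBZ : B ≤ Subgroup.center R
  · apply huB
    apply hZB
    rw [Subgroup.mem_center_iff]
    have hle : Subgroup.closure {x : R | ∃ g : R, ∃ a ∈ A, x = g⁻¹ * a g} ≤
        Subgroup.centralizer {u} := by
      rw [Subgroup.closure_le]
      rintro x ⟨g, a, ha, rfl⟩
      rw [SetLike.mem_coe, Subgroup.mem_centralizer_iff]
      intro h hh
      rw [Set.mem_singleton_iff] at hh
      subst hh
      have := key a ha g (fun w hw =>
        (Subgroup.mem_center_iff.mp (hBZ (hkerB hw)) (a g)).symm)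
      rw [commutatorElement_eq_one_iff_mul_comm] at this
      exact this
    rw [hRA] at hle
    intro g
    have := hle (Subgroup.mem_top g)
    rw [Subgroup.mem_centralizer_iff] at this
    exact (this u rfl).symm
  · obtain ⟨v, hvB, hvZ⟩ := SetLike.not_le_iff_exists.mp hBZ
    have hBab : ∀ x ∈ B, ∀ y ∈ B, x * y = y * x := by
      intro x hx y hy
      by_cases hxZ : x ∈ Subgroup.center R
      · exact (Subgroup.mem_center_iff.mp hxZ y).symm
      · have h := le_of_index_sq hR (Subgroup.center R) (Subgroup.centralizer {x} ⊓ B) B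
          (le_inf (Subgroup.center_le_centralizer _) hZB) inf_le_right hZidx
          ⟨x, ⟨Subgroup.mem_centralizer_iff.mpr (fun h hh => by
            rw [Set.mem_singleton_iff.mp hh]), hx⟩, hxZ⟩ hBtop
        have : y ∈ Subgroup.centralizer {x} := (h hy).1
        rw [Subgroup.mem_centralizer_iff] at this
        exact this x rfl
    have hBu : ∀ x ∈ B, u * x = x * u → x ∈ Subgroup.center R := by
      intro x hx hux
      by_contra hxZ
      have hCtop : Subgroup.centralizer {x} ≠ ⊤ := by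
        intro htop
        apply hxZ
        rw [Subgroup.mem_center_iff]
        intro g
        have : g ∈ Subgroup.centralizer {x} := htop ▸ Subgroup.mem_top g
        rw [Subgroup.mem_centralizer_iff] at this
        exact (this x rfl).symm
      have h := le_of_index_sq hR (Subgroup.center R) B (Subgroup.centralizer {x}) hZB
        (fun y hy => Subgroup.mem_centralizer_iff.mpr (fun h hh => by
          rw [Set.mem_singleton_iff.mp hh]; exact hBab x hx y hy)) hZidx ⟨x, hx, hxZ⟩ hCtop
      exact huB (h (Subgroup.mem_centralizer_iff.mpr (fun h hh => by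
          rw [Set.mem_singleton_iff.mp hh]; exact hux.symm)))
    apply hvZ
    apply mem_of_inv_mul_mem hR A hA hRA (Subgroup.center R) hcz v
    intro a ha
    have hav := hBinv a ha v hvB
    have h1 := key a ha v (fun w hw => hBab w (hkerB hw) (a v) hav)
    rw [commutatorElement_eq_one_iff_mul_comm] at h1
    exact hBu _ (Subgroup.mul_mem _ (Subgroup.inv_mem _ hvB) hav) h1

end Min

section Key

variable {R : Type*} [Group R] [Finite R] {p : ℕ} [Fact p.Prime]

/-- The action induced on a quotient by an invariant normal subgroup. -/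
def quotHom (A : Subgroup (MulAut R)) (M : Subgroup R) [M.Normal]
    (hM : ∀ a ∈ A, M.map ((a : R ≃* R) : R →* R) = M) : ↥A →* MulAut (R ⧸ M) :=
  MonoidHom.mk' (fun a => QuotientGroup.congr M M (a : MulAut R) (hM a a.2)) (by
    intro a b
    ext q
    obtain ⟨g, rfl⟩ := QuotientGroup.mk_surjective q
    rfl)

theorem quotHom_apply (A : Subgroup (MulAut R)) (M : Subgroup R) [M.Normal]
    (hM : ∀ a ∈ A, M.map ((a : R ≃* R) : R →* R) = M) (a : A) (g : R) :
    quotHom A M hM a (g : R ⧸ M) = (((a : MulAut R) g : R) : R ⧸ M) := rfl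

/-- A metacyclic `p`-group, `p` odd, which equals `[R, A]` for a group `A` of automorphisms of
order prime to `p` is abelian. -/
theorem commutative_of_coprime (hp : p ≠ 2) (hR : IsPGroup p R) (hm : Cfsg.IsMetacyclic R)
    (A : Subgroup (MulAut R)) (hA : (Nat.card A).Coprime p)
    (hRA : Subgroup.closure {x : R | ∃ g : R, ∃ a ∈ A, x = g⁻¹ * a g} = ⊤) :
    ∀ x y : R, x * y = y * x := by
  by_contra hcon
  have hpp : p.Prime := Fact.out
  have hc1 : commutator R ≠ ⊥ := by
    intro h
    apply hcon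
    intro x y
    have := comm_mem x y
    rw [h, Subgroup.mem_bot, commutatorElement_eq_one_iff_mul_comm] at this
    exact this
  obtain ⟨N, a₀, b₀, hNn, hNc, -, -, -, hcommN⟩ := Cfsg.Agent.Lib.Helper64.MetaB.exists_gens hm
  have hle : commutator R ≤ N := by
    rw [commutator_def, Subgroup.commutator_le]
    intro x _ y _
    exact hcommN x y
  haveI : IsCyclic (commutator R) :=
    isCyclic_of_injective (Subgroup.inclusion hle) (Subgroup.inclusion_injective hle)
  have hCab : ∀ c d : commutator R, c * d = d * c := by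
    obtain ⟨g, hg⟩ := IsCyclic.exists_generator (α := commutator R)
    intro x y
    obtain ⟨i, rfl⟩ := Subgroup.mem_zpowers_iff.mp (hg x)
    obtain ⟨j, rfl⟩ := Subgroup.mem_zpowers_iff.mp (hg y)
    exact (Commute.zpow_zpow_self g i j).eq
  let φ : ↥(commutator R) →* R := MonoidHom.mk' (fun c => (c : R) ^ p) (by
    intro c d
    have : Commute (c : R) (d : R) := congrArg Subtype.val (hCab c d)
    simp only [Subgroup.coe_mul]
    exact this.mul_pow p)
  have hφ : ∀ c, φ c = (c : R) ^ p := fun c => rfl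
  obtain ⟨M, hM⟩ : ∃ M : Subgroup R, M = φ.range := ⟨_, rfl⟩
  have hMmem : ∀ c ∈ commutator R, c ^ p ∈ M := by
    intro c hc; rw [hM]; exact ⟨⟨c, hc⟩, rfl⟩
  have hchar : (commutator R).Characteristic := by rw [commutator_def]; infer_instance
  have hMaut : ∀ a : MulAut R, ∀ m ∈ M, a m ∈ M := by
    intro a m hm
    rw [hM] at hm
    obtain ⟨c, rfl⟩ := hm
    rw [hφ, map_pow]
    apply hMmem
    have h := hchar.fixed a
    have hc : (c : R) ∈ (commutator R).comap a.toMonoidHom := by rw [h]; exact c.2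
    exact hc
  haveI hMn : M.Normal := ⟨fun m hm g => by
    have := hMaut (MulAut.conj g) m hm
    simpa [MulAut.conj_apply] using this⟩
  have hMmap : ∀ a ∈ A, M.map ((a : R ≃* R) : R →* R) = M := by
    intro a _
    apply le_antisymm
    · rintro _ ⟨m, hm, rfl⟩
      exact hMaut a m hm
    · intro m hm
      refine ⟨a⁻¹ m, hMaut a⁻¹ m hm, ?_⟩
      simp
  have hCM : ¬ commutator R ≤ M := by
    intro hCM
    obtain ⟨g, hg⟩ := IsCyclic.exists_generator (α := commutator R)
    obtain ⟨c, hc⟩ : ∃ c : commutator R, (c : R) ^ p = g := by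
      have := hCM g.2
      rw [hM] at this
      obtain ⟨c, hc⟩ := this
      exact ⟨c, hc⟩
    obtain ⟨j, rfl⟩ := Subgroup.mem_zpowers_iff.mp (hg c)
    have h1 : g ^ (j * p - 1) = 1 := by
      have : (g ^ j) ^ p = g := Subtype.ext (by simpa using hc)
      rw [zpow_sub, zpow_mul, zpow_natCast, this, zpow_one, mul_inv_cancel]
    have h2 : (orderOf g : ℤ) ∣ j * p - 1 := orderOf_dvd_iff_zpow_eq_one.mpr h1
    have h3 : orderOf g = Nat.card (commutator R) := orderOf_eq_card_of_forall_mem_zpowers hg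
    have h4 : p ∣ Nat.card (commutator R) := by
      obtain ⟨k, hk⟩ := (hR.to_subgroup (commutator R)).exists_card_eq
      rcases k with _ | k
      · exfalso
        apply hc1
        rw [pow_zero] at hk
        exact Subgroup.card_eq_one.mp hk
      · rw [hk, pow_succ]; exact dvd_mul_left p _
    have h5 : (p : ℤ) ∣ j * p - 1 := (Int.natCast_dvd_natCast.mpr (h3 ▸ h4)).trans h2
    have h6 : (p : ℤ) ∣ 1 := by
      have h7 : (p : ℤ) ∣ j * p := dvd_mul_left _ _
      have := dvd_sub h7 h5
      simpa using this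
    have h8 : p ∣ 1 := by exact_mod_cast h6
    exact hpp.one_lt.ne' (Nat.dvd_one.mp h8)
  have hcbar : Nat.card (commutator (R ⧸ M)) = p := by
    have hmap : commutator (R ⧸ M) = (commutator R).map (QuotientGroup.mk' M) := by
      rw [commutator_def, commutator_def, Subgroup.map_commutator,
        Subgroup.map_top_of_surjective _ (QuotientGroup.mk'_surjective M)]
    rw [hmap]
    haveI : IsCyclic ((commutator R).map (QuotientGroup.mk' M)) :=
      isCyclic_of_surjective ((QuotientGroup.mk' M).subgroupMap (commutator R))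
        ((QuotientGroup.mk' M).subgroupMap_surjective (commutator R))
    have hexp : ∀ x : (commutator R).map (QuotientGroup.mk' M), x ^ p = 1 := by
      rintro ⟨_, c, hc, rfl⟩
      apply Subtype.ext
      show (QuotientGroup.mk' M c) ^ p = 1
      rw [← map_pow, QuotientGroup.mk'_apply, QuotientGroup.eq_one_iff]
      exact hMmem c hc
    have hdvd : Nat.card ((commutator R).map (QuotientGroup.mk' M)) ∣ p := by
      rw [← IsCyclic.exponent_eq_card]
      exact Monoid.exponent_dvd_of_forall_pow_eq_one hexp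
    rcases (Nat.dvd_prime hpp).mp hdvd with h | h
    · exfalso
      apply hCM
      have hbot : (commutator R).map (QuotientGroup.mk' M) = ⊥ := Subgroup.card_eq_one.mp h
      intro c hc
      have : QuotientGroup.mk' M c ∈ (commutator R).map (QuotientGroup.mk' M) :=
        Subgroup.mem_map_of_mem _ hc
      rw [hbot, Subgroup.mem_bot, QuotientGroup.mk'_apply, QuotientGroup.eq_one_iff] at this
      exact this
    · exact h
  obtain ⟨Ψ, hΨ⟩ : ∃ Ψ : ↥A →* MulAut (R ⧸ M), Ψ = quotHom A M hMmap := ⟨_, rfl⟩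
  apply false_of_card_commutator hp (hR.to_quotient M)
    (Cfsg.Agent.Lib.Helper64.MetaB.isMetacyclic_quotient hm M) hcbar Ψ.range
  · exact Nat.Coprime.coprime_dvd_left (Subgroup.card_range_dvd Ψ) hA
  · rw [eq_top_iff]
    intro q _
    obtain ⟨g, rfl⟩ := QuotientGroup.mk_surjective q
    have hg : g ∈ Subgroup.closure {x : R | ∃ g : R, ∃ a ∈ A, x = g⁻¹ * a g} :=
      hRA ▸ Subgroup.mem_top g
    have := Subgroup.mem_map_of_mem (QuotientGroup.mk' M) hg
    rw [MonoidHom.map_closure] at this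
    refine Subgroup.closure_mono ?_ this
    rintro _ ⟨x, ⟨g, a, ha, rfl⟩, rfl⟩
    exact ⟨(g : R ⧸ M), Ψ ⟨a, ha⟩, ⟨⟨a, ha⟩, rfl⟩, by rw [hΨ]; rfl⟩

end Key

end Cfsg.Agent.Lib.Helper24.MetaCoprime
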