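import Mathlib
import Cfsg.Agent.Lib.Helper63.PFrattini
import Cfsg.Agent.Lib.Helper47.Frat
import Cfsg.Agent.Lib.Helper14.PQuartic

/-!
# Two-generated nonabelian groups of order `p ^ 4`: a characteristic chain
(piece Q2 of S5188, helper84's call, board 1439)

* `commHom y hy` : the homomorphism `g ↦ ⁅g, y⁆` when all these commutators are central.
* `exists_two_gen` : a group of order `p ^ 4` with Frattini index `p ^ 2` is generated by two
  elements.
* `card_commutator_dvd` : if moreover the Frattini subgroup is central, the derived subgroup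
  has order dividing `p`.
* `chain_of_two_gen` (Q2).
-/

set_option autoImplicit false

namespace Cfsg.Agent.Lib.Helper24.PQuartic2

open Cfsg.Agent.Lib.Helper63.PFrattini Cfsg.Agent.Lib.Helper14.PQuartic
open scoped commutatorElement

variable {H : Type*} [Group H]

/-- the commutator map `g ↦ ⁅g, y⁆` is a homomorphism if all its values are central -/
def commHom (y : H) (hy : ∀ g : H, ⁅g, y⁆ ∈ Subgroup.center H) : H →* H :=
  MonoidHom.mk' (fun g => ⁅g, y⁆) (by
    intro a b
    have hb := Subgroup.mem_center_iff.1 (hy b)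
    calc ⁅a * b, y⁆ = a * ⁅b, y⁆ * a⁻¹ * ⁅a, y⁆ := by
          simp only [commutatorElement_def]; group
      _ = ⁅b, y⁆ * a * a⁻¹ * ⁅a, y⁆ := by rw [hb a]
      _ = ⁅b, y⁆ * ⁅a, y⁆ := by rw [mul_inv_cancel_right]
      _ = ⁅a, y⁆ * ⁅b, y⁆ := (hb _).symm)

@[simp] theorem commHom_apply (y : H) (hy : ∀ g : H, ⁅g, y⁆ ∈ Subgroup.center H) (g : H) :
    commHom y hy g = ⁅g, y⁆ := rfl

theorem commHom_ker (y : H) (hy : ∀ g : H, ⁅g, y⁆ ∈ Subgroup.center H) :
    (commHom y hy).ker = Subgroup.centralizer {y} := by
  ext g
  rw [MonoidHom.mem_ker, commHom_apply, Subgroup.mem_centralizer_iff,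
    commutatorElement_eq_one_iff_mul_comm]
  constructor
  · intro h t ht
    rw [Set.mem_singleton_iff] at ht
    subst ht
    exact h.symm
  · intro h
    exact (h y rfl).symm

theorem card_lt_of_lt [Finite H] {K L : Subgroup H} (hKL : K < L) : Nat.card K < Nat.card L := by
  by_contra hcon
  push Not at hcon
  exact hKL.ne (Subgroup.eq_of_le_of_card_ge hKL.le hcon)

/-- a group of order `p ^ 4` with Frattini index `p ^ 2` is generated by two elements -/
theorem exists_two_gen [Finite H] {p : ℕ} [Fact p.Prime] (hcard : Nat.card H = p ^ 4)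
    (hfr : (frattini H).index = p ^ 2) : ∃ x y : H, Subgroup.closure {x, y} = ⊤ := by
  have hp : p.Prime := Fact.out
  obtain ⟨k, hk, hKk, hidx⟩ := card_subgroup_pow hcard (frattini H)
  have hk2 : k = 2 := by
    rw [hfr] at hidx
    have := Nat.pow_right_injective hp.two_le hidx
    omega
  subst hk2
  have hx : ∃ x, x ∉ frattini H := by
    by_contra hcon
    push Not at hcon
    have htop : frattini H = ⊤ := eq_top_iff.2 (fun y _ => hcon y)
    rw [htop, Subgroup.card_top, hcard] at hKk
    have := Nat.pow_right_injective hp.two_le hKk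
    omega
  obtain ⟨x, hx⟩ := hx
  by_cases hS : Subgroup.zpowers x ⊔ frattini H = ⊤
  · refine ⟨x, x, ?_⟩
    apply frattini_nongenerating
    rw [eq_top_iff, ← hS]
    apply sup_le_sup_right
    rw [Subgroup.zpowers_eq_closure]
    exact Subgroup.closure_mono (by simp)
  · obtain ⟨y, hy⟩ : ∃ y, y ∉ Subgroup.zpowers x ⊔ frattini H := by
      by_contra hcon
      push Not at hcon
      exact hS (eq_top_iff.2 (fun y _ => hcon y))
    refine ⟨x, y, ?_⟩
    apply frattini_nongenerating
    have h1 : frattini H < Subgroup.zpowers x ⊔ frattini H := by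
      refine lt_of_le_of_ne le_sup_right ?_
      intro h
      exact hx (h ▸ (le_sup_left : Subgroup.zpowers x ≤ _) (Subgroup.mem_zpowers x))
    have h2 : Subgroup.zpowers x ⊔ frattini H < Subgroup.closure {x, y} ⊔ frattini H := by
      refine lt_of_le_of_ne (sup_le_sup_right ?_ _) ?_
      · rw [Subgroup.zpowers_eq_closure]; exact Subgroup.closure_mono (by simp)
      · intro h
        apply hy
        rw [h]
        exact (le_sup_left : Subgroup.closure {x, y} ≤ _) (Subgroup.subset_closure (by simp))
    obtain ⟨k1, hk1, hc1, -⟩ := card_subgroup_pow hcard (Subgroup.zpowers x ⊔ frattini H)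
    obtain ⟨k2, hk2, hc2, -⟩ := card_subgroup_pow hcard (Subgroup.closure {x, y} ⊔ frattini H)
    have e1 := card_lt_of_lt h1
    have e2 := card_lt_of_lt h2
    rw [hKk, hc1] at e1
    rw [hc1, hc2] at e2
    have f1 : 2 < k1 := (Nat.pow_lt_pow_iff_right hp.one_lt).1 e1
    have f2 : k1 < k2 := (Nat.pow_lt_pow_iff_right hp.one_lt).1 e2
    have h4 : k2 = 4 := by omega
    subst h4
    exact Subgroup.eq_top_of_card_eq _ (by rw [hc2, hcard])

/-- a group of order `p ^ 4` with central Frattini subgroup of index `p ^ 2` has derived subgroup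
of order dividing `p` -/
theorem card_commutator_dvd [Finite H] {p : ℕ} [Fact p.Prime] (hcard : Nat.card H = p ^ 4)
    (hfr : (frattini H).index = p ^ 2) (hZ : frattini H ≤ Subgroup.center H) :
    Nat.card (commutator H) ∣ p := by
  have hp : p.Prime := Fact.out
  have hP : IsPGroup p H := IsPGroup.of_card hcard
  have hcomZ : ∀ g y : H, ⁅g, y⁆ ∈ Subgroup.center H := fun g y =>
    hZ (commutator_le_frattini hP (by
      rw [commutator_def]
      exact Subgroup.commutator_mem_commutator (Subgroup.mem_top g) (Subgroup.mem_top y)))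
  obtain ⟨x, y, hxy⟩ := exists_two_gen hcard hfr
  obtain ⟨c, hc⟩ : ∃ c : H, c = ⁅x, y⁆ := ⟨_, rfl⟩
  have hA : ∀ w : H, ⁅x, w⁆ ∈ Subgroup.zpowers c → ⁅y, w⁆ ∈ Subgroup.zpowers c →
      ∀ g : H, ⁅g, w⁆ ∈ Subgroup.zpowers c := by
    intro w hxw hyw g
    have hle : Subgroup.closure {x, y} ≤
        (Subgroup.zpowers c).comap (commHom w (fun g => hcomZ g w)) := by
      rw [Subgroup.closure_le]
      intro t ht
      rcases ht with rfl | ht
      · exact hxw
      · rw [Set.mem_singleton_iff] at ht
        subst ht
        exact hyw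
    exact hle (hxy ▸ Subgroup.mem_top g)
  have hinv : ∀ a b : H, ⁅a, b⁆ ∈ Subgroup.zpowers c → ⁅b, a⁆ ∈ Subgroup.zpowers c := by
    intro a b h
    rw [← commutatorElement_inv a b]
    exact inv_mem h
  have hcm : ⁅x, y⁆ ∈ Subgroup.zpowers c := hc ▸ Subgroup.mem_zpowers c
  have h1 : ∀ g : H, ⁅g, x⁆ ∈ Subgroup.zpowers c :=
    hA x (by rw [commutatorElement_self]; exact one_mem _) (hinv _ _ hcm)
  have h2 : ∀ g : H, ⁅g, y⁆ ∈ Subgroup.zpowers c :=
    hA y hcm (by rw [commutatorElement_self]; exact one_mem _)
  have h3 : ∀ g w : H, ⁅g, w⁆ ∈ Subgroup.zpowers c := fun g w =>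
    hA w (hinv _ _ (h1 w)) (hinv _ _ (h2 w)) g
  have hle : commutator H ≤ Subgroup.zpowers c := by
    rw [commutator_def, Subgroup.commutator_le]
    intro g _ w _
    exact h3 g w
  have hcp : c ^ p = 1 := by
    have hx : x ^ p ∈ Subgroup.center H := hZ (pow_mem_frattini hP x)
    have e1 : commHom y (fun g => hcomZ g y) (x ^ p) = c ^ p := by
      rw [map_pow, commHom_apply, hc]
    rw [← e1, commHom_apply, commutatorElement_eq_one_iff_mul_comm]
    exact (Subgroup.mem_center_iff.1 hx y).symm
  have hcard_z : Nat.card (Subgroup.zpowers c) ∣ p := by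
    rw [Nat.card_zpowers]
    exact orderOf_dvd_of_pow_eq_one hcp
  exact (Subgroup.card_dvd_of_le hle).trans hcard_z

/-- an automorphism maps a characteristic subgroup into itself -/
theorem char_map (K : Subgroup H) [hK : K.Characteristic] (α : MulAut H) (x : H) (hx : x ∈ K) :
    α x ∈ K := by
  have h1 := (Subgroup.characteristic_iff_map_eq.1 hK) α
  rw [← h1]
  exact Subgroup.mem_map_of_mem α.toMonoidHom hx

/-- [Q2] a two-generated nonabelian group of order `p ^ 4` has a chain of characteristic
subgroups of orders `p ^ 3`, `p ^ 2`, `p` -/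
theorem chain_of_two_gen {H : Type*} [Group H] [Finite H] {p : ℕ} [Fact p.Prime]
    (hcard : Nat.card H = p ^ 4) (hna : ∃ a b : H, a * b ≠ b * a)
    (hfr : (frattini H).index = p ^ 2) :
    ∃ C B A : Subgroup H, A ≤ B ∧ B ≤ C ∧ Nat.card C = p ^ 3 ∧ Nat.card B = p ^ 2 ∧
      Nat.card A = p ∧ (∀ α : MulAut H, ∀ x ∈ C, α x ∈ C) ∧ (∀ α : MulAut H, ∀ x ∈ B, α x ∈ B) ∧
      (∀ α : MulAut H, ∀ x ∈ A, α x ∈ A) := by
  have hp : p.Prime := Fact.out
  have hP : IsPGroup p H := IsPGroup.of_card hcard
  obtain ⟨kΦ, hkΦ, hcΦ, hiΦ⟩ := card_subgroup_pow hcard (frattini H)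
  have hkΦ2 : kΦ = 2 := by
    rw [hfr] at hiΦ
    have := Nat.pow_right_injective hp.two_le hiΦ
    omega
  subst hkΦ2
  have hcomle : commutator H ≤ frattini H := commutator_le_frattini hP
  obtain ⟨k, hk, hck, hik⟩ := card_subgroup_pow hcard (commutator H)
  have hk2 : k ≤ 2 := by
    have h1 := Nat.le_of_dvd (by rw [hcΦ]; exact pow_pos hp.pos _)
      (Subgroup.card_dvd_of_le hcomle)
    rw [hck, hcΦ] at h1
    exact (Nat.pow_le_pow_iff_right hp.one_lt).1 h1
  have hk0 : k ≠ 0 := by
    rintro rfl
    obtain ⟨a, b, hab⟩ := hna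
    have hbot : commutator H = ⊥ := Subgroup.card_eq_one.1 (by rw [hck, pow_zero])
    have h1 : ⁅a, b⁆ ∈ commutator H := by
      rw [commutator_def]
      exact Subgroup.commutator_mem_commutator (Subgroup.mem_top a) (Subgroup.mem_top b)
    rw [hbot, Subgroup.mem_bot, commutatorElement_eq_one_iff_mul_comm] at h1
    exact hab h1
  obtain rfl | rfl : k = 1 ∨ k = 2 := by omega
  · -- the derived subgroup has order `p`
    rw [pow_one] at hck
    obtain ⟨π, hπ⟩ : ∃ π : H →* Abelianization H, ∀ x : H, π x = Abelianization.of (x ^ p) :=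
      ⟨(powMonoidHom p).comp Abelianization.of, fun x => by simp⟩
    have hmemC : ∀ x : H, x ∈ π.ker ↔ x ^ p ∈ commutator H := by
      intro x
      rw [MonoidHom.mem_ker, hπ, ← Abelianization.ker_of (G := H), MonoidHom.mem_ker]
    have hsurj : Function.Surjective (Abelianization.of : H →* Abelianization H) :=
      QuotientGroup.mk'_surjective _
    have hTidx : ((frattini H).map (Abelianization.of : H →* Abelianization H)).index = p ^ 2 := by
      rw [Subgroup.index_map_eq (frattini H) hsurj (by rw [Abelianization.ker_of]; exact hcomle), hfr]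
    have hAb : Nat.card (Abelianization H) = p ^ 3 := by
      have h1 : (commutator H).index = p ^ 3 := by simpa using hik
      exact h1
    have hTcard : Nat.card ((frattini H).map (Abelianization.of : H →* Abelianization H)) = p := by
      have h := Subgroup.card_mul_index ((frattini H).map (Abelianization.of : H →* Abelianization H))
      rw [hTidx, hAb] at h
      have h2 : Nat.card ((frattini H).map (Abelianization.of : H →* Abelianization H)) * p ^ 2
          = p * p ^ 2 := by rw [h]; ring
      exact Nat.eq_of_mul_eq_mul_right (pow_pos hp.pos 2) h2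
    have hrange : π.range ≤ (frattini H).map (Abelianization.of : H →* Abelianization H) := by
      rintro _ ⟨x, rfl⟩
      rw [hπ]
      exact Subgroup.mem_map_of_mem _ (pow_mem_frattini hP x)
    have hCne : π.ker ≠ ⊤ := by
      intro htop
      have hall : ∀ x : H, x ^ p ∈ commutator H := fun x =>
        (hmemC x).1 (htop ▸ Subgroup.mem_top x)
      have hle := Cfsg.Agent.Lib.Helper47.Frat.frattini_le_of_pow_comm (p := p) (commutator H)
        hall le_rfl
      have h1 := Nat.le_of_dvd (by rw [hck]; exact hp.pos) (Subgroup.card_dvd_of_le hle)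
      rw [hcΦ, hck] at h1
      have h2 : p ^ 2 ≤ p ^ 1 := by simpa using h1
      have := (Nat.pow_le_pow_iff_right hp.one_lt).1 h2
      omega
    have hCidx : π.ker.index = p := by
      have h1 : π.ker.index ∣ p := by
        rw [Subgroup.index_ker, ← hTcard]
        exact Subgroup.card_dvd_of_le hrange
      rcases (Nat.dvd_prime hp).1 h1 with h | h
      · exact absurd (Subgroup.index_eq_one.1 h) hCne
      · exact h
    obtain ⟨kC, hkC, hcC, hiC⟩ := card_subgroup_pow hcard π.ker
    have hkC3 : kC = 3 := by
      rw [hCidx] at hiC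
      have := Nat.pow_right_injective hp.two_le (show p ^ 1 = p ^ (4 - kC) by simpa using hiC)
      omega
    subst hkC3
    refine ⟨π.ker, frattini H, commutator H, hcomle, ?_, hcC, hcΦ, hck, ?_, ?_, ?_⟩
    · intro x hx
      rw [MonoidHom.mem_ker, hπ, map_pow]
      have hxT : Abelianization.of x ∈ (frattini H).map (Abelianization.of : H →* Abelianization H) :=
        Subgroup.mem_map_of_mem _ hx
      have h1 : (⟨Abelianization.of x, hxT⟩ :
          (frattini H).map (Abelianization.of : H →* Abelianization H)) ^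
          Nat.card ((frattini H).map (Abelianization.of : H →* Abelianization H)) = 1 :=
        pow_card_eq_one'
      rw [hTcard] at h1
      have h2 := congrArg Subtype.val h1
      simpa using h2
    · intro α x hx
      rw [hmemC] at hx ⊢
      rw [← map_pow]
      exact char_map (commutator H) α _ hx
    · exact fun α x hx => char_map (frattini H) α x hx
    · exact fun α x hx => char_map (commutator H) α x hx
  · -- the derived subgroup is the Frattini subgroup
    have hcomeq : commutator H = frattini H :=
      Subgroup.eq_of_le_of_card_ge hcomle (by rw [hck, hcΦ])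
    have hnotZ : ¬ commutator H ≤ Subgroup.center H := by
      intro hZ
      have h1 := card_commutator_dvd hcard hfr (hcomeq ▸ hZ)
      rw [hck] at h1
      have h2 := Nat.le_of_dvd hp.pos h1
      have h3 : p ^ 2 ≤ p ^ 1 := by simpa using h2
      have := (Nat.pow_le_pow_iff_right hp.one_lt).1 h3
      omega
    have hKchar : ∀ α : MulAut H, ∀ x ∈ ⁅(⊤ : Subgroup H), commutator H⁆,
        α x ∈ ⁅(⊤ : Subgroup H), commutator H⁆ := fun α x hx => char_map _ α x hx
    have hKnorm : (⁅(⊤ : Subgroup H), commutator H⁆).Normal := inferInstance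
    have hKle0 : ⁅(⊤ : Subgroup H), commutator H⁆ ≤ commutator H := Subgroup.commutator_le_right _ _
    have hKmem : ∀ g : H, ∀ h ∈ commutator H, ⁅g, h⁆ ∈ ⁅(⊤ : Subgroup H), commutator H⁆ :=
      fun g h hh => Subgroup.commutator_mem_commutator (Subgroup.mem_top g) hh
    have hKbot0 : ⁅(⊤ : Subgroup H), commutator H⁆ ≠ ⊥ := by
      intro hbot
      apply hnotZ
      rw [Subgroup.commutator_comm, Subgroup.commutator_eq_bot_iff_le_centralizer] at hbot
      rw [← Subgroup.centralizer_univ]
      simpa using hbot
    have hKne0 : ⁅(⊤ : Subgroup H), commutator H⁆ ≠ commutator H := by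
      intro heq
      have hnil : Group.IsNilpotent H := hP.isNilpotent
      obtain ⟨n, hn⟩ := Subgroup.nilpotent_iff_lowerCentralSeries.1 hnil
      have hall : ∀ m : ℕ, commutator H ≤ Subgroup.lowerCentralSeries (⊤ : Subgroup H) m := by
        intro m
        induction m with
        | zero => simp
        | succ m ih =>
          calc commutator H = ⁅(⊤ : Subgroup H), commutator H⁆ := heq.symm
            _ = ⁅commutator H, (⊤ : Subgroup H)⁆ := Subgroup.commutator_comm _ _
            _ ≤ ⁅Subgroup.lowerCentralSeries (⊤ : Subgroup H) m, (⊤ : Subgroup H)⁆ :=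
                Subgroup.commutator_mono ih le_rfl
            _ = Subgroup.lowerCentralSeries (⊤ : Subgroup H) (m + 1) := rfl
      have h1 := hall n
      rw [hn, le_bot_iff] at h1
      rw [h1, Subgroup.card_bot] at hck
      have h2 : 1 < p ^ 2 := Nat.one_lt_pow (by norm_num) hp.one_lt
      omega
    obtain ⟨K, hK⟩ : ∃ K : Subgroup H, K = ⁅(⊤ : Subgroup H), commutator H⁆ := ⟨_, rfl⟩
    rw [← hK] at hKchar hKnorm hKle0 hKmem hKbot0 hKne0
    have hKcard : Nat.card K = p := by
      obtain ⟨j, hj, hcj, -⟩ := card_subgroup_pow hcard K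
      have h1 : j ≤ 2 := by
        have h1 := Nat.le_of_dvd (by rw [hck]; exact pow_pos hp.pos _)
          (Subgroup.card_dvd_of_le hKle0)
        rw [hck, hcj] at h1
        exact (Nat.pow_le_pow_iff_right hp.one_lt).1 h1
      have h0 : j ≠ 0 := by
        rintro rfl
        exact hKbot0 (Subgroup.card_eq_one.1 (by rw [hcj, pow_zero]))
      have h2 : j ≠ 2 := by
        rintro rfl
        exact hKne0 (Subgroup.eq_of_le_of_card_ge hKle0 (by rw [hck, hcj]))
      have h3 : j = 1 := by omega
      rw [hcj, h3, pow_one]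
    have hKZ : K ≤ Subgroup.center H := normal_card_prime_le_center hP K hKcard
    obtain ⟨h, hh, hhZ⟩ := SetLike.not_le_iff_exists.1 hnotZ
    have hcen : ∀ g : H, ⁅g, h⁆ ∈ Subgroup.center H := fun g => hKZ (hKmem g h hh)
    have hsup : Subgroup.zpowers h ⊔ K = commutator H := by
      have hle : Subgroup.zpowers h ⊔ K ≤ commutator H := sup_le (Subgroup.zpowers_le.2 hh) hKle0
      apply Subgroup.eq_of_le_of_card_ge hle
      have hlt : K < Subgroup.zpowers h ⊔ K :=
        lt_of_le_of_ne le_sup_right (fun heq => hhZ (hKZ (heq ▸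
          (le_sup_left : Subgroup.zpowers h ≤ _) (Subgroup.mem_zpowers h))))
      obtain ⟨j, hj, hcj, -⟩ := card_subgroup_pow hcard (Subgroup.zpowers h ⊔ K)
      have h1 := card_lt_of_lt hlt
      rw [hKcard, hcj] at h1
      have h2 : 1 < j := (Nat.pow_lt_pow_iff_right hp.one_lt).1 (by simpa using h1)
      rw [hck, hcj]
      exact Nat.pow_le_pow_right hp.pos h2
    have hzle : ∀ g : H, h * g = g * h → commutator H ≤ Subgroup.centralizer {g} := by
      intro g hg
      rw [← hsup]
      refine sup_le ?_ (hKZ.trans (Subgroup.center_le_centralizer _))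
      rw [Subgroup.zpowers_le, Subgroup.mem_centralizer_iff]
      intro t ht
      rw [Set.mem_singleton_iff] at ht
      subst ht
      exact hg.symm
    have hCeq : Subgroup.centralizer (commutator H : Set H) = Subgroup.centralizer {h} := by
      apply le_antisymm
      · exact Subgroup.centralizer_le (by simpa using hh)
      · intro g hg
        rw [Subgroup.mem_centralizer_iff] at hg ⊢
        have hg' : h * g = g * h := hg h rfl
        intro k hk
        have h1 := hzle g hg' hk
        rw [Subgroup.mem_centralizer_iff] at h1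
        exact (h1 g rfl).symm
    have hidx : (Subgroup.centralizer ({h} : Set H)).index = p := by
      have h1 : (commHom h hcen).ker.index ∣ p := by
        rw [Subgroup.index_ker, ← hKcard]
        apply Subgroup.card_dvd_of_le
        rintro _ ⟨g, rfl⟩
        exact hKmem g h hh
      rw [commHom_ker] at h1
      rcases (Nat.dvd_prime hp).1 h1 with h2 | h2
      · exfalso
        have htop := Subgroup.index_eq_one.1 h2
        apply hhZ
        rw [Subgroup.mem_center_iff]
        intro g
        have h3 : g ∈ Subgroup.centralizer ({h} : Set H) := htop ▸ Subgroup.mem_top g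
        rw [Subgroup.mem_centralizer_iff] at h3
        exact (h3 h rfl).symm
      · exact h2
    obtain ⟨kC, hkC, hcC, hiC⟩ := card_subgroup_pow hcard (Subgroup.centralizer ({h} : Set H))
    have hkC3 : kC = 3 := by
      rw [hidx] at hiC
      have := Nat.pow_right_injective hp.two_le (show p ^ 1 = p ^ (4 - kC) by simpa using hiC)
      omega
    subst hkC3
    refine ⟨Subgroup.centralizer (commutator H : Set H), frattini H, K, hKle0.trans hcomle, ?_, ?_,
      hcΦ, hKcard, ?_, ?_, hKchar⟩
    · rw [hCeq, ← hcomeq]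
      exact hzle h rfl
    · rw [hCeq]; exact hcC
    · exact fun α x hx => char_map (Subgroup.centralizer (commutator H : Set H)) α x hx
    · exact fun α x hx => char_map (frattini H) α x hx

end Cfsg.Agent.Lib.Helper24.PQuartic2
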