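import Mathlib
import Cfsg.Agent.Lib.Helper8.GFZ1BStmt

set_option autoImplicit false

namespace Cfsg.Agent.Lib.Helper24.GFZ1BALGA

open Cfsg.Agent.Lib.Helper40.GFStmt Cfsg.Agent.Lib.Helper8.GFZ1BStmt

universe u

theorem main : AlgA.{u} := by
  intro F L _ _ _ _ A A' D hA1 hA' hD hall
  have hAinj : Function.Injective A := Function.LeftInverse.injective hA'
  have hAsurj : Function.Surjective A := Finite.injective_iff_surjective.mp hAinj
  have hAA' : ∀ s, A (A' s) = s := by
    intro s
    obtain ⟨t, rfl⟩ := hAsurj s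
    rw [hA']
  obtain ⟨κ, hκ⟩ := hall 1
  have hκ' : ∀ t, A' (D t) = κ * t := by
    intro t
    have := congrArg (fun f : L →ₗ[F] L => f t) hκ
    simpa using this
  have hD' : ∀ t, D t = A (κ * t) := by
    intro t
    rw [← hκ' t, hAA']
  have hκ0 : κ ≠ 0 := by
    intro h0
    have h1 : D 1 = D 0 := by
      rw [hD' 1, hD' 0, h0, zero_mul, zero_mul]
    exact one_ne_zero (hD h1)
  have key : ∀ a s : L, a * A s = A (A' a * s) := by
    intro a s
    obtain ⟨c', hc'⟩ := hall a
    have hc : ∀ t, A' (a * A (κ * t)) = c' * t := by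
      intro t
      have := congrArg (fun f : L →ₗ[F] L => f t) hc'
      simp only [LinearMap.comp_apply, LinearMap.mulLeft_apply] at this
      rw [← hD' t]
      exact this
    have h1 : A' a = c' * κ⁻¹ := by
      have := hc κ⁻¹
      rw [mul_inv_cancel₀ hκ0, hA1, mul_one] at this
      exact this
    have h2 := hc (κ⁻¹ * s)
    rw [← mul_assoc, mul_inv_cancel₀ hκ0, one_mul] at h2
    rw [← hAA' (a * A s), h2, h1]
    congr 1
    ring
  refine ⟨?_, κ, hκ0, hD'⟩
  intro a b
  rw [key (A a) b, hA']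

end Cfsg.Agent.Lib.Helper24.GFZ1BALGA
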