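import Mathlib

/-!
# Piece statements for S3009 (helper24)

S3009: an irreducible nontrivial module `V` (in characteristic `p`) for `G ≅ SL₂(F)`, `|F| = pⁿ`,
on which a Sylow `p`-subgroup `S` acts quadratically, or with `|V| ≤ |C_V(S)|²`, is the natural
module.

Abstract setting used by all pieces: `M` an additive commutative group with a
`DistribMulAction (SL2 F) M`.  Notation: `ua x = [1 x; 0 1]`, `ub x = [1 0; x 1]`,
`uw x = ua x * ub (-x⁻¹) * ua x = [0 x; -x⁻¹ 0]`, `uh x = uw x * (uw 1)⁻¹ = diag(x, x⁻¹)`,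
`Wp = C_M(ua)`, `Wm = C_M(ub)`, `dX x m = ua x • m - m`, `dY x m = ub x • m - m`,
`theta m = - dY (-1) m`, `phi x m = - dX x (dY (-1) m)`.
-/

set_option autoImplicit false

namespace Cfsg.Agent.Lib.Helper24.NatStmt

open Matrix

universe u

/-- `SL₂(F)` -/
abbrev SL2 (F : Type*) [Field F] := Matrix.SpecialLinearGroup (Fin 2) F

section mat

variable {F : Type*} [Field F]

/-- `[1 x; 0 1]` -/
def ua (x : F) : SL2 F := ⟨!![1, x; 0, 1], by simp [Matrix.det_fin_two]⟩

/-- `[1 0; x 1]` -/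
def ub (x : F) : SL2 F := ⟨!![1, 0; x, 1], by simp [Matrix.det_fin_two]⟩

/-- `[0 x; -x⁻¹ 0]` (for `x ≠ 0`) -/
def uw (x : F) : SL2 F := ua x * ub (-x⁻¹) * ua x

/-- `diag(x, x⁻¹)` (for `x ≠ 0`) -/
def uh (x : F) : SL2 F := uw x * (uw 1)⁻¹

theorem ua_coe (x : F) : ((ua x : SL2 F) : Matrix (Fin 2) (Fin 2) F) = !![1, x; 0, 1] := rfl

theorem ub_coe (x : F) : ((ub x : SL2 F) : Matrix (Fin 2) (Fin 2) F) = !![1, 0; x, 1] := rfl

theorem uw_coe {x : F} (hx : x ≠ 0) :
    ((uw x : SL2 F) : Matrix (Fin 2) (Fin 2) F) = !![0, x; -x⁻¹, 0] := by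
  unfold uw
  rw [Matrix.SpecialLinearGroup.coe_mul, Matrix.SpecialLinearGroup.coe_mul, ua_coe, ub_coe]
  ext i j
  fin_cases i <;> fin_cases j <;> simp [Matrix.mul_apply, Fin.sum_univ_two, hx]

theorem ua_add (x y : F) : ua (x + y) = ua x * ua y := by
  apply Subtype.ext
  rw [Matrix.SpecialLinearGroup.coe_mul, ua_coe, ua_coe, ua_coe]
  ext i j
  fin_cases i <;> fin_cases j <;> simp [Matrix.mul_apply, Fin.sum_univ_two, add_comm]

theorem ub_add (x y : F) : ub (x + y) = ub x * ub y := by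
  apply Subtype.ext
  rw [Matrix.SpecialLinearGroup.coe_mul, ub_coe, ub_coe, ub_coe]
  ext i j
  fin_cases i <;> fin_cases j <;> simp [Matrix.mul_apply, Fin.sum_univ_two, add_comm]

theorem ua_zero : ua (0 : F) = 1 := by
  apply Subtype.ext
  rw [ua_coe, Matrix.SpecialLinearGroup.coe_one]
  ext i j
  fin_cases i <;> fin_cases j <;> simp

theorem ub_zero : ub (0 : F) = 1 := by
  apply Subtype.ext
  rw [ub_coe, Matrix.SpecialLinearGroup.coe_one]
  ext i j
  fin_cases i <;> fin_cases j <;> simp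

theorem ua_inv (x : F) : (ua x)⁻¹ = ua (-x) := by
  rw [inv_eq_iff_mul_eq_one, ← ua_add, add_neg_cancel, ua_zero]

theorem ub_inv (x : F) : (ub x)⁻¹ = ub (-x) := by
  rw [inv_eq_iff_mul_eq_one, ← ub_add, add_neg_cancel, ub_zero]

/-- `uw x * ua y = ub (-(y / x²)) * uw x` -/
theorem uw_mul_ua {x : F} (hx : x ≠ 0) (y : F) : uw x * ua y = ub (-(y / x ^ 2)) * uw x := by
  apply Subtype.ext
  rw [Matrix.SpecialLinearGroup.coe_mul, Matrix.SpecialLinearGroup.coe_mul, uw_coe hx, ua_coe,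
    ub_coe]
  ext i j
  fin_cases i <;> fin_cases j <;> simp [Matrix.mul_apply, Fin.sum_univ_two] <;> field_simp

/-- `uw x * ub y = ua (-(x² * y)) * uw x` -/
theorem uw_mul_ub {x : F} (hx : x ≠ 0) (y : F) : uw x * ub y = ua (-(x ^ 2 * y)) * uw x := by
  apply Subtype.ext
  rw [Matrix.SpecialLinearGroup.coe_mul, Matrix.SpecialLinearGroup.coe_mul, uw_coe hx, ua_coe,
    ub_coe]
  ext i j
  fin_cases i <;> fin_cases j <;> simp [Matrix.mul_apply, Fin.sum_univ_two] <;> field_simp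

/-- the braid relation: `uw x = ub (-x⁻¹) * ua x * ub (-x⁻¹)` -/
theorem uw_eq_bab {x : F} (hx : x ≠ 0) : uw x = ub (-x⁻¹) * ua x * ub (-x⁻¹) := by
  apply Subtype.ext
  rw [uw_coe hx, Matrix.SpecialLinearGroup.coe_mul, Matrix.SpecialLinearGroup.coe_mul, ua_coe,
    ub_coe]
  ext i j
  fin_cases i <;> fin_cases j <;> simp [Matrix.mul_apply, Fin.sum_univ_two, hx]

/-- `ua x = uw x * ua (-x) * ub x⁻¹` -/
theorem ua_eq_uw {x : F} : ua x = uw x * ua (-x) * ub x⁻¹ := by
  unfold uw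
  rw [← ua_inv, ← neg_neg x⁻¹, ← ub_inv, neg_neg]
  group

/-- `ub (-x⁻¹) = uw x * ub x⁻¹ * ua (-x)` -/
theorem ub_eq_uw {x : F} (hx : x ≠ 0) : ub (-x⁻¹) = uw x * ub x⁻¹ * ua (-x) := by
  rw [uw_eq_bab hx, ← ua_inv, ← neg_neg x⁻¹, ← ub_inv, neg_neg]
  group

theorem uh_coe {x : F} (hx : x ≠ 0) :
    ((uh x : SL2 F) : Matrix (Fin 2) (Fin 2) F) = !![x, 0; 0, x⁻¹] := by
  have h1 : ((uw (1 : F))⁻¹ : SL2 F) = uw (-1 : F) := by
    rw [inv_eq_iff_mul_eq_one]
    apply Subtype.ext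
    rw [Matrix.SpecialLinearGroup.coe_mul, uw_coe one_ne_zero,
      uw_coe (neg_ne_zero.2 one_ne_zero), Matrix.SpecialLinearGroup.coe_one]
    ext i j
    fin_cases i <;> fin_cases j <;> simp [Matrix.mul_apply, Fin.sum_univ_two]
  unfold uh
  rw [h1, Matrix.SpecialLinearGroup.coe_mul, uw_coe hx, uw_coe (neg_ne_zero.2 one_ne_zero)]
  ext i j
  fin_cases i <;> fin_cases j <;> simp [Matrix.mul_apply, Fin.sum_univ_two]

/-- the torus is multiplicative -/
theorem uh_mul {x y : F} (hx : x ≠ 0) (hy : y ≠ 0) : uh (x * y) = uh x * uh y := by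
  apply Subtype.ext
  rw [Matrix.SpecialLinearGroup.coe_mul, uh_coe hx, uh_coe hy, uh_coe (mul_ne_zero hx hy)]
  ext i j
  fin_cases i <;> fin_cases j <;> simp [Matrix.mul_apply, Fin.sum_univ_two, mul_comm]

end mat

/-! ## the module side -/

section modu

variable (F : Type*) [Field F] (M : Type*) [AddCommGroup M] [DistribMulAction (SL2 F) M]

/-- fixed points of the upper unitriangular group -/
def Wp : AddSubgroup M where
  carrier := {m | ∀ x : F, ua x • m = m}
  zero_mem' := fun x => smul_zero _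
  add_mem' := fun {a b} ha hb x => by rw [smul_add, ha x, hb x]
  neg_mem' := fun {a} ha x => by rw [smul_neg, ha x]

/-- fixed points of the lower unitriangular group -/
def Wm : AddSubgroup M where
  carrier := {m | ∀ x : F, ub x • m = m}
  zero_mem' := fun x => smul_zero _
  add_mem' := fun {a b} ha hb x => by rw [smul_add, ha x, hb x]
  neg_mem' := fun {a} ha x => by rw [smul_neg, ha x]

variable {F M}

theorem mem_Wp {m : M} : m ∈ Wp F M ↔ ∀ x : F, ua x • m = m := Iff.rfl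

theorem mem_Wm {m : M} : m ∈ Wm F M ↔ ∀ x : F, ub x • m = m := Iff.rfl

/-- `(ua x - 1) m` -/
def dX (x : F) (m : M) : M := ua x • m - m

/-- `(ub x - 1) m` -/
def dY (x : F) (m : M) : M := ub x • m - m

variable (F) in
/-- `theta m = -(ub (-1) - 1) m` (on `Wp` this is the action of `(uw 1)⁻¹`) -/
def theta (m : M) : M := - dY (-1 : F) m

/-- `phi x m = -(ua x - 1)(ub (-1) - 1) m` (on `Wp` this is the action of `uh x = diag(x, x⁻¹)`) -/
def phi (x : F) (m : M) : M := - dX x (dY (-1 : F) m)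

variable (F M)

/-- irreducibility -/
def Irr : Prop :=
  ∀ N : AddSubgroup M, (∀ (g : SL2 F), ∀ m ∈ N, g • m ∈ N) → N = ⊥ ∨ N = ⊤

/-- nontriviality of the action -/
def Nontriv : Prop := ∃ (g : SL2 F) (m : M), g • m ≠ m

/-- the upper unitriangular group acts quadratically -/
def Quad : Prop := ∀ (x : F) (m : M), dX x m ∈ Wp F M

/-- the lower unitriangular group acts quadratically -/
def QuadM : Prop := ∀ (x : F) (m : M), dY x m ∈ Wm F M

/-- `M = Wp ⊕ Wm` -/
def Decomp : Prop := Wp F M ⊓ Wm F M = ⊥ ∧ Wp F M ⊔ Wm F M = ⊤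

/-- conclusion of piece NAT1 -/
def Nat1C : Prop :=
  ∀ x : F, x ≠ 0 →
    (∀ m ∈ Wp F M, dX x (dY (-x⁻¹) m) = -m) ∧
    (∀ m ∈ Wm F M, dY (-x⁻¹) (dX x m) = -m) ∧
    (∀ m ∈ Wp F M, uw x • m = dY (-x⁻¹) m) ∧
    (∀ m ∈ Wm F M, uw x • m = dX x m)

/-- conclusion of piece NAT2 -/
def Nat2C : Prop :=
  (∀ m ∈ Wp F M, phi (1 : F) m = m) ∧
  (∀ (x y : F), ∀ m ∈ Wp F M, phi (x + y) m = phi x m + phi y m) ∧
  (∀ (x y : F), ∀ m ∈ Wp F M, phi (x * y) m = phi x (phi y m)) ∧
  (∀ (x : F), ∀ m ∈ Wp F M, dY x m = theta F (phi x m))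

/-- the natural module: an equivariant additive bijection onto `F²` -/
def IsNat : Prop :=
  ∃ ψ : M ≃+ (Fin 2 → F), ∀ (g : SL2 F) (m : M),
    ψ (g • m) = (g : Matrix (Fin 2) (Fin 2) F) *ᵥ ψ m

end modu

/-! ## the pieces -/

/-- [GEN] `SL₂(F)` is generated by the `ua x` and the `ub x`.
(`[a b; c d]` with `c ≠ 0` is `ua ((a-1)/c) * ub c * ua ((d-1)/c)`; if `c = 0` multiply by
`ub 1` first.) -/
def Gen : Prop :=
  ∀ (F : Type) [Field F] (g : SL2 F),
    g ∈ Subgroup.closure ({y : SL2 F | ∃ x : F, y = ua x} ∪ {y : SL2 F | ∃ x : F, y = ub x})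

/-- [SYL] every Sylow `p`-subgroup of `SL₂(F)`, `|F| = pⁿ`, is conjugate to `{ua x}`.
(`Cfsg.Agent.H41.exists_sylow_USL` (module `Cfsg.Agent.H41.McKayLocal`) gives a Sylow subgroup
equal to `USL F = {uSL x}`, `uSL x = ua x` by `Subtype.ext rfl`; then Sylow conjugacy.) -/
def Syl : Prop :=
  ∀ (p : ℕ) [Fact p.Prime] (F : Type) [Field F] [Fintype F] (n : ℕ)
    (_ : Fintype.card F = p ^ n) (S : Sylow p (SL2 F)),
    ∃ k : SL2 F, ∀ g : SL2 F, g ∈ S ↔ ∃ x : F, k * g * k⁻¹ = ua x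

/-- [QM] quadratic action of `{ua x}` gives quadratic action of `{ub x}`.
(`ub x = uw 1 * ua (-x) * (uw 1)⁻¹` by `uw_mul_ua`, and `uw 1 • Wp ≤ Wm` by `uw_mul_ua`.) -/
def QuadMOf : Prop :=
  ∀ (F : Type) [Field F] (M : Type u) [AddCommGroup M] [DistribMulAction (SL2 F) M],
    Quad F M → QuadM F M

/-- [DECQ] quadratic + irreducible + nontrivial gives `M = Wp ⊕ Wm`.
(`Wp ⊓ Wm` is fixed by all of `SL₂` (Gen), the fixed points form an invariant subgroup, so it
is `⊥`.  `Wp ⊔ Wm` is invariant under `ua x` (`ua x • m = m + dX x m`, `dX x m ∈ Wp`) and under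
`ub x` (QuadMOf), hence invariant (Gen; use a subgroup of `g` with `g • N ≤ N` and
`g⁻¹ • N ≤ N`), and it is not `⊥`: otherwise `Wp = ⊥`, so `dX x m = 0` for all `m`, so
`Wp = ⊤`, so `M` is trivial, contradicting `Nontriv`.) -/
def DecQ : Prop :=
  Gen → QuadMOf.{u} →
  ∀ (F : Type) [Field F] (M : Type u) [AddCommGroup M] [DistribMulAction (SL2 F) M],
    Irr F M → Nontriv F M → Quad F M → Decomp F M

/-- [DECH1] `|M| ≤ |Wp|²` + irreducible + nontrivial gives `M = Wp ⊕ Wm`.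
(`Wp ⊓ Wm = ⊥` as in DECQ; `m ↦ uw 1 • m` is a bijection `Wp → Wm` (`uw_mul_ua`, `uw_mul_ub`),
so `|Wm| = |Wp|`; `(a, b) ↦ a + b` is injective on `Wp × Wm`, so `|Wp ⊔ Wm| ≥ |Wp|² ≥ |M|`.) -/
def DecH1 : Prop :=
  Gen →
  ∀ (F : Type) [Field F] (M : Type u) [AddCommGroup M] [Finite M] [DistribMulAction (SL2 F) M],
    Irr F M → Nontriv F M → Nat.card M ≤ Nat.card (Wp F M) ^ 2 → Decomp F M

/-- [FIX] the `p`-group `{ua x}` has a nonzero fixed point on `M / Wp ≅ Wm`.
(Let `π` be the projection onto `Wm` along `Wp`; `x ⋆ m = π (ua x • m)` is an action of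
`Multiplicative F` (a `p`-group) on the finite `p`-group `Wm ≠ 0`, with fixed point `0`; use
`IsPGroup.exists_fixed_point_of_prime_dvd_card_of_fixed_point`.  Or any other argument.) -/
def Fix : Prop :=
  ∀ (p : ℕ) [Fact p.Prime] (F : Type) [Field F] [Fintype F] (n : ℕ) (_ : Fintype.card F = p ^ n)
    (M : Type u) [AddCommGroup M] [Finite M] [DistribMulAction (SL2 F) M]
    (_ : ∀ m : M, p • m = 0), Decomp F M → Wm F M ≠ ⊥ →
    ∃ m ∈ Wm F M, m ≠ 0 ∧ ∀ x : F, dX x m ∈ Wp F M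

/-- [DECH2] if `M = Wp ⊕ Wm`, `M` irreducible, and some nonzero `m₀ ∈ Wm` has `dX x m₀ ∈ Wp`
for all `x`, then `{ua x}` acts quadratically.
(`W₁⁻ = {m ∈ Wm | ∀ x, dX x m ∈ Wp}`, `W₁ = {m ∈ Wp | ∀ x, dY x m ∈ Wm}`, `N = W₁ ⊔ W₁⁻`.
For `n ∈ W₁⁻`, `x ≠ 0`: `ua x • n = uw x • ua (-x) • ub x⁻¹ • n = uw x • n + uw x • dX (-x) n`
(`ua_eq_uw`) with `uw x • n ∈ Wp`, `uw x • dX (-x) n ∈ Wm`; comparing with `n + dX x n`:
`dX x n = uw x • n`, and `uw x • n ∈ W₁` since `dY y (uw x • n) = uw x • dX y' n`.  Symmetric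
for `ub` with `ub_eq_uw`.  So `N` is invariant, `N = ⊤`, and `dX x (n₁ + n₂) = dX x n₂ ∈ Wp`.) -/
def DecH2 : Prop :=
  Gen →
  ∀ (F : Type) [Field F] (M : Type u) [AddCommGroup M] [DistribMulAction (SL2 F) M],
    Irr F M → Decomp F M → (∃ m ∈ Wm F M, m ≠ 0 ∧ ∀ x : F, dX x m ∈ Wp F M) → Quad F M

/-- [NAT1] the Weyl elements: for `x ≠ 0`, `X = dX x`, `Y = dY (-x⁻¹)`: `X Y = -1` on `Wp`,
`Y X = -1` on `Wm`, `uw x = Y` on `Wp`, `uw x = X` on `Wm`.
(`uw x • m = m + Y m + X (Y m)` for `m ∈ Wp` lies in `Wm` (`uw_mul_ub`), so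
`m + X (Y m) ∈ Wp ⊓ Wm = ⊥`; for `m ∈ Wm`: `uw x • m = m + 2 X m + Y X m + X Y X m
= (m + Y X m) + X m` lies in `Wp` (`uw_mul_ua`).) -/
def Nat1 : Prop :=
  ∀ (F : Type) [Field F] (M : Type u) [AddCommGroup M] [DistribMulAction (SL2 F) M],
    Decomp F M → Quad F M → QuadM F M → Nat1C F M

/-- [NAT2] `phi` is a ring homomorphism `F → End(Wp)` and `dY x = theta ∘ phi x` on `Wp`.
(`phi 1 = 1`: NAT1 at `x = 1`.  Additivity: `dX (x+y) m = dX x m + dX y m` by `Quad`.
Multiplicativity: for `m ∈ Wp`, `(uw 1)⁻¹ • m = theta m` and `uh x • m = uw x • theta m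
= dX x (theta m) = phi x m` for `x ≠ 0`; then `uh_mul`.  Last: for `x ≠ 0`, `z = -x⁻¹`: both
`dY x m` and `theta (phi x m)` lie in `Wm` and `dX z` maps them to `-m`; `dX z` is injective on
`Wm` by NAT1.) -/
def Nat2 : Prop :=
  ∀ (F : Type) [Field F] (M : Type u) [AddCommGroup M] [DistribMulAction (SL2 F) M],
    Decomp F M → Quad F M → QuadM F M → Nat1C F M → Nat2C F M

/-- [NAT3] the natural module.
(Pick `w₀ ≠ 0` in `Wp`; `ψ' v = phi (v 0) w₀ + theta (phi (v 1) w₀)` is additive, equivariant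
for `ua x` and `ub x` (Nat2C), hence for all `g` (Gen); its range is invariant and nonzero, so
`ψ'` is surjective; it is injective by `Wp ⊓ Wm = ⊥`, injectivity of `theta` on `Wp` and
`phi x⁻¹ (phi x w₀) = w₀`.) -/
def Nat3 : Prop :=
  Gen →
  ∀ (F : Type) [Field F] (M : Type u) [AddCommGroup M] [DistribMulAction (SL2 F) M],
    Irr F M → Nontriv F M → Decomp F M → Quad F M → QuadM F M → Nat1C F M → Nat2C F M →
    IsNat F M

/-- the abstract theorem -/
def AbsThm : Prop :=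
  ∀ (p : ℕ) [Fact p.Prime] (F : Type) [Field F] [Fintype F] (n : ℕ) (_ : Fintype.card F = p ^ n)
    (M : Type u) [AddCommGroup M] [Finite M] [DistribMulAction (SL2 F) M]
    (_ : ∀ m : M, p • m = 0), Irr F M → Nontriv F M →
    (Quad F M ∨ Nat.card M ≤ Nat.card (Wp F M) ^ 2) → IsNat F M

/-- assembly of the abstract theorem -/
theorem absThm_of (hGen : Gen) (hQM : QuadMOf.{u}) (hDecQ : DecQ.{u}) (hDecH1 : DecH1.{u})
    (hFix : Fix.{u}) (hDecH2 : DecH2.{u}) (hNat1 : Nat1.{u}) (hNat2 : Nat2.{u})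
    (hNat3 : Nat3.{u}) : AbsThm.{u} := by
  intro p _ F _ _ n hF M _ _ _ hp hirr hnt hyp
  have key : Decomp F M ∧ Quad F M := by
    rcases hyp with hq | hc
    · exact ⟨hDecQ hGen hQM F M hirr hnt hq, hq⟩
    · have hdec := hDecH1 hGen F M hirr hnt hc
      refine ⟨hdec, ?_⟩
      have hWm : Wm F M ≠ ⊥ := by
        intro h0
        have h1 : Wp F M = ⊤ := by
          have := hdec.2
          rwa [h0, sup_bot_eq] at this
        obtain ⟨g, m, hgm⟩ := hnt
        have hfix : ∀ (g : SL2 F) (m : M), g • m = m := by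
          intro g
          have hg := hGen F g
          induction hg using Subgroup.closure_induction with
          | mem y hy =>
            intro m
            rcases hy with ⟨x, rfl⟩ | ⟨x, rfl⟩
            · have : m ∈ Wp F M := by rw [h1]; trivial
              exact this x
            · have hm : m ∈ Wm F M := by
                have h2 := hdec.1
                rw [h1, top_inf_eq] at h2
                have h3 : ub x • m ∈ Wp F M := by rw [h1]; trivial
                have : m ∈ Wp F M := by rw [h1]; trivial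
                rw [h0]
                -- `Wm = ⊥` and `Wp = ⊤` force `M` trivial via `uw 1`
                have h4 : ∀ m' : M, uw (1 : F) • m' ∈ Wm F M := by
                  intro m' y
                  have e : ub y * uw (1 : F) = uw (1 : F) * ua (-y) := by
                    rw [uw_mul_ua one_ne_zero]
                    simp
                  rw [← mul_smul, e, mul_smul]
                  have : m' ∈ Wp F M := by rw [h1]; trivial
                  rw [this (-y)]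
                have h5 := h4 ((uw (1 : F))⁻¹ • m)
                rw [smul_inv_smul, h0] at h5
                exact h5
              exact hm x
          | one => intro m; exact one_smul _ m
          | mul a b _ _ ha hb => intro m; rw [mul_smul, hb, ha]
          | inv a _ ha =>
            intro m
            have := ha (a⁻¹ • m)
            rw [smul_inv_smul] at this
            exact this.symm
        exact hgm (hfix g m)
      exact hDecH2 hGen F M hirr hdec (hFix p F n hF M hp hdec hWm)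
  obtain ⟨hdec, hq⟩ := key
  have hqm := hQM F M hq
  have h1 := hNat1 F M hdec hq hqm
  have h2 := hNat2 F M hdec hq hqm h1
  exact hNat3 hGen F M hirr hnt hdec hq hqm h1 h2

end Cfsg.Agent.Lib.Helper24.NatStmt
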