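import Mathlib
import Cfsg.Agent.H41.SylowTorus
import Cfsg.Agent.Lib.Helper24.NatStmt

/-!
# S3009, piece SYL (helper24): Sylow `p`-subgroups of `SL₂(F)`, `|F| = pⁿ`
-/

set_option autoImplicit false

namespace Cfsg.Agent.Lib.Helper24.NatSYL

open Cfsg.Agent.Lib.Helper24.NatStmt
open scoped Pointwise

/-- the upper unitriangular homomorphism -/
def uaHom (F : Type*) [Field F] : Multiplicative F →* SL2 F where
  toFun x := ua (Multiplicative.toAdd x)
  map_one' := ua_zero
  map_mul' x y := ua_add _ _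

theorem ua_injective {F : Type*} [Field F] : Function.Injective (ua : F → SL2 F) := by
  intro x y h
  have h1 := congrArg (fun g : SL2 F => (g : Matrix (Fin 2) (Fin 2) F) 0 1) h
  simpa [ua_coe] using h1

theorem main : Syl := by
  intro p _ F _ _ n hF S
  classical
  have hp : p.Prime := Fact.out
  have hn : n ≠ 0 := by
    rintro rfl
    rw [pow_zero] at hF
    have := Fintype.one_lt_card (α := F)
    omega
  have hq2 : 2 ≤ p ^ n := by
    calc 2 ≤ p := hp.two_le
      _ = p ^ 1 := (pow_one p).symm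
      _ ≤ p ^ n := Nat.pow_le_pow_right hp.pos (Nat.one_le_iff_ne_zero.2 hn)
  have h1 : ¬ p ∣ (p ^ n) ^ 2 - 1 := by
    intro h
    have h2 : p ∣ (p ^ n) ^ 2 := dvd_pow (dvd_pow_self p hn) (by norm_num)
    have hsq : 4 ≤ (p ^ n) ^ 2 := by nlinarith
    have h3 : p ∣ ((p ^ n) ^ 2 - 1) + 1 := by
      have e : (p ^ n) ^ 2 - 1 + 1 = (p ^ n) ^ 2 := by omega
      rw [e]; exact h2
    have h4 := (Nat.dvd_add_right h).1 h3
    have := Nat.le_of_dvd (by norm_num) h4
    have := hp.two_le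
    omega
  have hinj : Function.Injective (uaHom F) := fun x y h =>
    Multiplicative.toAdd.injective (ua_injective h)
  have hcardU : Nat.card (uaHom F).range = Fintype.card F := by
    rw [← Nat.card_congr (MonoidHom.ofInjective hinj).toEquiv, ← Nat.card_eq_fintype_card]
    exact Nat.card_congr Multiplicative.toAdd
  have hsq : 4 ≤ (p ^ n) ^ 2 := by nlinarith
  have hcard : Nat.card (uaHom F).range = p ^ (Nat.card (SL2 F)).factorization p := by
    rw [hcardU, Cfsg.Agent.H41.card_SL2_eq, hF,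
      Nat.factorization_mul (by positivity) (by omega), Finsupp.add_apply,
      Nat.Prime.factorization_pow hp, Finsupp.single_eq_same,
      Nat.factorization_eq_zero_of_not_dvd h1, add_zero]
  let P₀ : Sylow p (SL2 F) := Sylow.ofCard (uaHom F).range hcard
  have hP₀ : (P₀ : Subgroup (SL2 F)) = (uaHom F).range := Sylow.coe_ofCard _ _
  obtain ⟨k, hk⟩ := MulAction.exists_smul_eq (SL2 F) S P₀
  refine ⟨k, ?_⟩
  intro g
  have h2 : (P₀ : Subgroup (SL2 F)) = MulAut.conj k • (S : Subgroup (SL2 F)) := by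
    rw [← hk]; rfl
  have h3 : k * g * k⁻¹ ∈ (P₀ : Subgroup (SL2 F)) ↔ g ∈ (S : Subgroup (SL2 F)) := by
    rw [h2]
    exact Subgroup.smul_mem_pointwise_smul_iff (a := MulAut.conj k)
  have h4 : g ∈ S ↔ k * g * k⁻¹ ∈ (P₀ : Subgroup (SL2 F)) := h3.symm
  rw [h4, hP₀]
  constructor
  · rintro ⟨x, hx⟩
    exact ⟨Multiplicative.toAdd x, hx.symm⟩
  · rintro ⟨x, hx⟩
    exact ⟨Multiplicative.ofAdd x, hx.symm⟩

end Cfsg.Agent.Lib.Helper24.NatSYL
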