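import Mathlib
import Cfsg.Prelude.Def_Classical
import Cfsg.Prelude.Def_GeometricClasses
import Cfsg.Agent.Lib.Helper37.HypStmt
import Cfsg.Agent.Lib.Helper45.OMiStmt

/-!
# S5991: transfer library between the minus form on `M d → F` and the odd form on `I d → F`

`β = b - (a/2)²`.  `emb v = (t = z₁ + (a/2) z₂ ; x_j, y_j as they are ; x_last = z₂ ;
y_last = β z₂)`, `w0 = e_(x,last) - β e_(y,last)`, `tcL w` = the `w0`-coordinate of `w`,
`prj w` = the preimage of `w - tcL w • w0`, `hat x` = the extension of `x` fixing `w0`,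
`hatG : GL (M d) F →* GL (I d) F`.  Same lemma names as `Cfsg.Agent.Lib.Helper94.OPEmb`; the role of
the coordinate `u (Sum.inl ())` there is played by `tcL d F a b hd u` here.
-/

set_option autoImplicit false

universe u

open scoped Matrix

namespace Cfsg.Agent.Lib.Helper24.OMiEmb

open Cfsg.Agent.Lib.Helper37.HypStmt Cfsg.Agent.Lib.Helper45.OMiStmt

variable {F : Type u} [Field F] {d : ℕ}

/-! ## scalars -/

/-- `a / 2` -/
def hlf (a : F) : F := a / 2

theorem two_hlf (h2 : (2 : F) ≠ 0) (a : F) : 2 * hlf a = a := by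
  unfold hlf
  field_simp

/-- `β = b - (a/2)²` -/
def bet (a b : F) : F := b - hlf a ^ 2

theorem bet_ne_zero (h2 : (2 : F) ≠ 0) {a b : F} (hab : Aniso a b) : bet a b ≠ 0 := by
  intro h
  have h1 := hab (-hlf a) 1 (by
    unfold bet at h
    linear_combination h + hlf a * two_hlf h2 a)
  exact one_ne_zero h1.2

theorem two_bet_ne_zero (h2 : (2 : F) ≠ 0) {a b : F} (hab : Aniso a b) : 2 * bet a b ≠ 0 :=
  mul_ne_zero h2 (bet_ne_zero h2 hab)

theorem aux1 (β x y : F) (h2 : (2 : F) ≠ 0) (hβ : β ≠ 0) :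
    (β * x - y) / (2 * β) + (β * x + y) / (2 * β) = x := by
  field_simp
  ring

theorem aux2 (β x y : F) (h2 : (2 : F) ≠ 0) (hβ : β ≠ 0) :
    β * ((β * x + y) / (2 * β)) - β * ((β * x - y) / (2 * β)) = y := by
  field_simp
  ring

/-! ## indices -/

/-- the first `d - 1` indices of `Fin d` -/
def cst (d : ℕ) (i : Fin (d - 1)) : Fin d := ⟨i.1, by have := i.2; omega⟩

/-- the last index of `Fin d` -/
def lst (d : ℕ) (hd : 1 ≤ d) : Fin d := ⟨d - 1, by omega⟩

theorem cst_lt (i : Fin (d - 1)) : (cst d i).1 < d - 1 := i.2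

theorem lst_not_lt (hd : 1 ≤ d) : ¬ (lst d hd).1 < d - 1 := by
  show ¬ (d - 1 < d - 1)
  omega

theorem eq_lst (hd : 1 ≤ d) (j : Fin d) (h : ¬ j.1 < d - 1) : j = lst d hd := by
  apply Fin.ext
  show j.1 = d - 1
  have := j.2
  omega

theorem sum_split (hd : 1 ≤ d) (f : Fin d → F) :
    ∑ j : Fin d, f j = ∑ i : Fin (d - 1), f (cst d i) + f (lst d hd) := by
  obtain ⟨e, rfl⟩ : ∃ e, d = e + 1 := ⟨d - 1, by omega⟩
  exact Fin.sum_univ_castSucc f

/-! ## the embedding -/

/-- the underlying function of the embedding -/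
def embFun (d : ℕ) (a b : F) (v : M d → F) : I d → F
  | Sum.inl _ => v (Sum.inr 0) + hlf a * v (Sum.inr 1)
  | Sum.inr (Sum.inl j) =>
      if h : j.1 < d - 1 then v (Sum.inl (Sum.inl ⟨j.1, h⟩)) else v (Sum.inr 1)
  | Sum.inr (Sum.inr j) =>
      if h : j.1 < d - 1 then v (Sum.inl (Sum.inr ⟨j.1, h⟩)) else bet a b * v (Sum.inr 1)

/-- embedding of the minus space into the odd space -/
def emb (d : ℕ) (F : Type u) [Field F] (a b : F) : (M d → F) →ₗ[F] (I d → F) where
  toFun v := embFun d a b v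
  map_add' := by
    intro u v
    funext s
    rcases s with s | j | j
    · show (u + v) (Sum.inr 0) + hlf a * (u + v) (Sum.inr 1) =
        (u (Sum.inr 0) + hlf a * u (Sum.inr 1)) + (v (Sum.inr 0) + hlf a * v (Sum.inr 1))
      simp only [Pi.add_apply]
      ring
    · by_cases h : j.1 < d - 1
      · show embFun d a b (u + v) (Sum.inr (Sum.inl j)) =
          embFun d a b u (Sum.inr (Sum.inl j)) + embFun d a b v (Sum.inr (Sum.inl j))
        simp only [embFun, dif_pos h, Pi.add_apply]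
      · show embFun d a b (u + v) (Sum.inr (Sum.inl j)) =
          embFun d a b u (Sum.inr (Sum.inl j)) + embFun d a b v (Sum.inr (Sum.inl j))
        simp only [embFun, dif_neg h, Pi.add_apply]
    · by_cases h : j.1 < d - 1
      · show embFun d a b (u + v) (Sum.inr (Sum.inr j)) =
          embFun d a b u (Sum.inr (Sum.inr j)) + embFun d a b v (Sum.inr (Sum.inr j))
        simp only [embFun, dif_pos h, Pi.add_apply]
      · show embFun d a b (u + v) (Sum.inr (Sum.inr j)) =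
          embFun d a b u (Sum.inr (Sum.inr j)) + embFun d a b v (Sum.inr (Sum.inr j))
        simp only [embFun, dif_neg h, Pi.add_apply]
        ring
  map_smul' := by
    intro c v
    funext s
    rcases s with s | j | j
    · show (c • v) (Sum.inr 0) + hlf a * (c • v) (Sum.inr 1) =
        c • (v (Sum.inr 0) + hlf a * v (Sum.inr 1))
      simp only [Pi.smul_apply, smul_eq_mul]
      ring
    · by_cases h : j.1 < d - 1
      · show embFun d a b (c • v) (Sum.inr (Sum.inl j)) = c • embFun d a b v (Sum.inr (Sum.inl j))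
        simp only [embFun, dif_pos h, Pi.smul_apply]
      · show embFun d a b (c • v) (Sum.inr (Sum.inl j)) = c • embFun d a b v (Sum.inr (Sum.inl j))
        simp only [embFun, dif_neg h, Pi.smul_apply]
    · by_cases h : j.1 < d - 1
      · show embFun d a b (c • v) (Sum.inr (Sum.inr j)) = c • embFun d a b v (Sum.inr (Sum.inr j))
        simp only [embFun, dif_pos h, Pi.smul_apply]
      · show embFun d a b (c • v) (Sum.inr (Sum.inr j)) = c • embFun d a b v (Sum.inr (Sum.inr j))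
        simp only [embFun, dif_neg h, Pi.smul_apply, smul_eq_mul]
        ring

variable {a b : F}

theorem emb_inl (v : M d → F) (s : Unit) :
    emb d F a b v (Sum.inl s) = v (Sum.inr 0) + hlf a * v (Sum.inr 1) := rfl

theorem emb_x_of_lt (v : M d → F) (j : Fin d) (h : j.1 < d - 1) :
    emb d F a b v (Sum.inr (Sum.inl j)) = v (Sum.inl (Sum.inl ⟨j.1, h⟩)) := dif_pos h

theorem emb_x_of_not_lt (v : M d → F) (j : Fin d) (h : ¬ j.1 < d - 1) :
    emb d F a b v (Sum.inr (Sum.inl j)) = v (Sum.inr 1) := dif_neg h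

theorem emb_y_of_lt (v : M d → F) (j : Fin d) (h : j.1 < d - 1) :
    emb d F a b v (Sum.inr (Sum.inr j)) = v (Sum.inl (Sum.inr ⟨j.1, h⟩)) := dif_pos h

theorem emb_y_of_not_lt (v : M d → F) (j : Fin d) (h : ¬ j.1 < d - 1) :
    emb d F a b v (Sum.inr (Sum.inr j)) = bet a b * v (Sum.inr 1) := dif_neg h

theorem emb_x_cst (v : M d → F) (i : Fin (d - 1)) :
    emb d F a b v (Sum.inr (Sum.inl (cst d i))) = v (Sum.inl (Sum.inl i)) :=
  emb_x_of_lt v (cst d i) (cst_lt i)

theorem emb_y_cst (v : M d → F) (i : Fin (d - 1)) :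
    emb d F a b v (Sum.inr (Sum.inr (cst d i))) = v (Sum.inl (Sum.inr i)) :=
  emb_y_of_lt v (cst d i) (cst_lt i)

theorem emb_x_lst (hd : 1 ≤ d) (v : M d → F) :
    emb d F a b v (Sum.inr (Sum.inl (lst d hd))) = v (Sum.inr 1) :=
  emb_x_of_not_lt v _ (lst_not_lt hd)

theorem emb_y_lst (hd : 1 ≤ d) (v : M d → F) :
    emb d F a b v (Sum.inr (Sum.inr (lst d hd))) = bet a b * v (Sum.inr 1) :=
  emb_y_of_not_lt v _ (lst_not_lt hd)

theorem quadOdd_split (hd : 1 ≤ d) (w : I d → F) :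
    Cfsg.quadFormOdd d F w = w (Sum.inl ()) ^ 2
      + (∑ i : Fin (d - 1), w (Sum.inr (Sum.inl (cst d i))) * w (Sum.inr (Sum.inr (cst d i))))
      + w (Sum.inr (Sum.inl (lst d hd))) * w (Sum.inr (Sum.inr (lst d hd))) := by
  unfold Cfsg.quadFormOdd
  rw [sum_split hd (fun j => w (Sum.inr (Sum.inl j)) * w (Sum.inr (Sum.inr j)))]
  ring

theorem quadOdd_emb (h2 : (2 : F) ≠ 0) (hd : 1 ≤ d) (v : M d → F) :
    Cfsg.quadFormOdd d F (emb d F a b v) = Cfsg.quadFormMinus (d - 1) F a b v := by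
  rw [quadOdd_split hd]
  simp only [emb_inl, emb_x_cst, emb_y_cst, emb_x_lst, emb_y_lst]
  unfold Cfsg.quadFormMinus bet
  linear_combination (v (Sum.inr 0) * v (Sum.inr 1)) * two_hlf h2 a

theorem polar_emb (h2 : (2 : F) ≠ 0) (hd : 1 ≤ d) (u v : M d → F) :
    QuadraticMap.polar (Cfsg.quadFormOdd d F) (emb d F a b u) (emb d F a b v) =
      QuadraticMap.polar (Cfsg.quadFormMinus (d - 1) F a b) u v := by
  unfold QuadraticMap.polar
  rw [← map_add, quadOdd_emb h2 hd, quadOdd_emb h2 hd, quadOdd_emb h2 hd]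

/-! ## the vector `w0` and the coordinate `tcL` -/

/-- the vector `w0 = e_(x,last) - β e_(y,last)` -/
def w0 (d : ℕ) (F : Type u) [Field F] (a b : F) : I d → F
  | Sum.inl _ => 0
  | Sum.inr (Sum.inl j) => if j.1 < d - 1 then 0 else 1
  | Sum.inr (Sum.inr j) => if j.1 < d - 1 then 0 else -bet a b

theorem w0_inl (s : Unit) : w0 d F a b (Sum.inl s) = 0 := rfl

theorem w0_x_of_lt (j : Fin d) (h : j.1 < d - 1) : w0 d F a b (Sum.inr (Sum.inl j)) = 0 :=
  if_pos h

theorem w0_x_of_not_lt (j : Fin d) (h : ¬ j.1 < d - 1) : w0 d F a b (Sum.inr (Sum.inl j)) = 1 :=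
  if_neg h

theorem w0_y_of_lt (j : Fin d) (h : j.1 < d - 1) : w0 d F a b (Sum.inr (Sum.inr j)) = 0 :=
  if_pos h

theorem w0_y_of_not_lt (j : Fin d) (h : ¬ j.1 < d - 1) :
    w0 d F a b (Sum.inr (Sum.inr j)) = -bet a b :=
  if_neg h

/-- the `w0`-coordinate -/
def tcL (d : ℕ) (F : Type u) [Field F] (a b : F) (hd : 1 ≤ d) : (I d → F) →ₗ[F] F where
  toFun w := (bet a b * w (Sum.inr (Sum.inl (lst d hd))) - w (Sum.inr (Sum.inr (lst d hd)))) /
    (2 * bet a b)
  map_add' := by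
    intro u v
    simp only [Pi.add_apply]
    ring
  map_smul' := by
    intro c u
    simp only [Pi.smul_apply, smul_eq_mul, RingHom.id_apply]
    ring

/-- the `z₂`-coordinate of the projection -/
def z2L (d : ℕ) (F : Type u) [Field F] (a b : F) (hd : 1 ≤ d) : (I d → F) →ₗ[F] F where
  toFun w := (bet a b * w (Sum.inr (Sum.inl (lst d hd))) + w (Sum.inr (Sum.inr (lst d hd)))) /
    (2 * bet a b)
  map_add' := by
    intro u v
    simp only [Pi.add_apply]
    ring
  map_smul' := by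
    intro c u
    simp only [Pi.smul_apply, smul_eq_mul, RingHom.id_apply]
    ring

theorem tcL_apply (hd : 1 ≤ d) (w : I d → F) : tcL d F a b hd w =
    (bet a b * w (Sum.inr (Sum.inl (lst d hd))) - w (Sum.inr (Sum.inr (lst d hd)))) /
      (2 * bet a b) := rfl

theorem z2L_apply (hd : 1 ≤ d) (w : I d → F) : z2L d F a b hd w =
    (bet a b * w (Sum.inr (Sum.inl (lst d hd))) + w (Sum.inr (Sum.inr (lst d hd)))) /
      (2 * bet a b) := rfl

theorem tc_add_z2 (h2 : (2 : F) ≠ 0) (hab : Aniso a b) (hd : 1 ≤ d) (w : I d → F) :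
    tcL d F a b hd w + z2L d F a b hd w = w (Sum.inr (Sum.inl (lst d hd))) := by
  rw [tcL_apply, z2L_apply]
  exact aux1 _ _ _ h2 (bet_ne_zero h2 hab)

theorem bet_z2_sub_tc (h2 : (2 : F) ≠ 0) (hab : Aniso a b) (hd : 1 ≤ d) (w : I d → F) :
    bet a b * z2L d F a b hd w - bet a b * tcL d F a b hd w =
      w (Sum.inr (Sum.inr (lst d hd))) := by
  rw [tcL_apply, z2L_apply]
  exact aux2 _ _ _ h2 (bet_ne_zero h2 hab)

theorem tc_emb (hd : 1 ≤ d) (v : M d → F) : tcL d F a b hd (emb d F a b v) = 0 := by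
  rw [tcL_apply, emb_x_lst, emb_y_lst, sub_self, zero_div]

theorem z2_emb (h2 : (2 : F) ≠ 0) (hab : Aniso a b) (hd : 1 ≤ d) (v : M d → F) :
    z2L d F a b hd (emb d F a b v) = v (Sum.inr 1) := by
  rw [z2L_apply, emb_x_lst, emb_y_lst]
  have hβ := bet_ne_zero h2 hab
  field_simp
  ring

theorem tc_w0 (h2 : (2 : F) ≠ 0) (hab : Aniso a b) (hd : 1 ≤ d) :
    tcL d F a b hd (w0 d F a b) = 1 := by
  rw [tcL_apply, w0_x_of_not_lt _ (lst_not_lt hd), w0_y_of_not_lt _ (lst_not_lt hd)]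
  have hβ := bet_ne_zero h2 hab
  field_simp
  ring

theorem z2_w0 (hd : 1 ≤ d) : z2L d F a b hd (w0 d F a b) = 0 := by
  rw [z2L_apply, w0_x_of_not_lt _ (lst_not_lt hd), w0_y_of_not_lt _ (lst_not_lt hd)]
  simp

/-! ## the projection -/

/-- the underlying function of the projection -/
def prjFun (d : ℕ) (a b : F) (hd : 1 ≤ d) (w : I d → F) : M d → F
  | Sum.inl (Sum.inl i) => w (Sum.inr (Sum.inl (cst d i)))
  | Sum.inl (Sum.inr i) => w (Sum.inr (Sum.inr (cst d i)))
  | Sum.inr j => if j = 0 then w (Sum.inl ()) - hlf a * z2L d F a b hd w else z2L d F a b hd w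

/-- projection of the odd space onto the minus space (along `w0`) -/
def prj (d : ℕ) (F : Type u) [Field F] (a b : F) (hd : 1 ≤ d) : (I d → F) →ₗ[F] (M d → F) where
  toFun w := prjFun d a b hd w
  map_add' := by
    intro u v
    funext s
    rcases s with (i | i) | j
    · rfl
    · rfl
    · by_cases h : j = 0
      · show prjFun d a b hd (u + v) (Sum.inr j) =
          prjFun d a b hd u (Sum.inr j) + prjFun d a b hd v (Sum.inr j)
        simp only [prjFun, if_pos h, map_add, Pi.add_apply]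
        ring
      · show prjFun d a b hd (u + v) (Sum.inr j) =
          prjFun d a b hd u (Sum.inr j) + prjFun d a b hd v (Sum.inr j)
        simp only [prjFun, if_neg h, map_add]
  map_smul' := by
    intro c v
    funext s
    rcases s with (i | i) | j
    · rfl
    · rfl
    · by_cases h : j = 0
      · show prjFun d a b hd (c • v) (Sum.inr j) = c • prjFun d a b hd v (Sum.inr j)
        simp only [prjFun, if_pos h, map_smul, Pi.smul_apply, smul_eq_mul]
        ring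
      · show prjFun d a b hd (c • v) (Sum.inr j) = c • prjFun d a b hd v (Sum.inr j)
        simp only [prjFun, if_neg h, map_smul]

theorem prj_x (hd : 1 ≤ d) (w : I d → F) (i : Fin (d - 1)) :
    prj d F a b hd w (Sum.inl (Sum.inl i)) = w (Sum.inr (Sum.inl (cst d i))) := rfl

theorem prj_y (hd : 1 ≤ d) (w : I d → F) (i : Fin (d - 1)) :
    prj d F a b hd w (Sum.inl (Sum.inr i)) = w (Sum.inr (Sum.inr (cst d i))) := rfl

theorem prj_z1 (hd : 1 ≤ d) (w : I d → F) :
    prj d F a b hd w (Sum.inr 0) = w (Sum.inl ()) - hlf a * z2L d F a b hd w := rfl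

theorem prj_z2 (hd : 1 ≤ d) (w : I d → F) :
    prj d F a b hd w (Sum.inr 1) = z2L d F a b hd w := rfl

theorem prj_emb (h2 : (2 : F) ≠ 0) (hab : Aniso a b) (hd : 1 ≤ d) (v : M d → F) :
    prj d F a b hd (emb d F a b v) = v := by
  funext s
  rcases s with (i | i) | j
  · rw [prj_x, emb_x_cst]
  · rw [prj_y, emb_y_cst]
  · revert j
    rw [Fin.forall_fin_two]
    constructor
    · rw [prj_z1, z2_emb h2 hab, emb_inl]
      ring
    · rw [prj_z2, z2_emb h2 hab]

theorem emb_inj (h2 : (2 : F) ≠ 0) (hab : Aniso a b) (hd : 1 ≤ d) :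
    Function.Injective (emb d F a b) := by
  intro u v h
  have := congrArg (prj d F a b hd) h
  rwa [prj_emb h2 hab, prj_emb h2 hab] at this

theorem prj_w0 (hd : 1 ≤ d) : prj d F a b hd (w0 d F a b) = 0 := by
  funext s
  rcases s with (i | i) | j
  · rw [prj_x, w0_x_of_lt _ (cst_lt i)]
    rfl
  · rw [prj_y, w0_y_of_lt _ (cst_lt i)]
    rfl
  · revert j
    rw [Fin.forall_fin_two]
    constructor
    · rw [prj_z1, z2_w0, w0_inl]
      simp
    · rw [prj_z2, z2_w0]
      rfl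

/-- decomposition of a vector of the odd space -/
theorem eq_smul_w0_add (h2 : (2 : F) ≠ 0) (hab : Aniso a b) (hd : 1 ≤ d) (w : I d → F) :
    w = tcL d F a b hd w • w0 d F a b + emb d F a b (prj d F a b hd w) := by
  funext s
  rcases s with s | j | j
  · cases s
    rw [Pi.add_apply, Pi.smul_apply, w0_inl, emb_inl, prj_z1, prj_z2, smul_eq_mul]
    ring
  · by_cases h : j.1 < d - 1
    · rw [Pi.add_apply, Pi.smul_apply, w0_x_of_lt j h, emb_x_of_lt _ j h, prj_x, smul_eq_mul,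
        mul_zero, zero_add]
      rfl
    · rw [Pi.add_apply, Pi.smul_apply, w0_x_of_not_lt j h, emb_x_of_not_lt _ j h, prj_z2,
        smul_eq_mul, mul_one, tc_add_z2 h2 hab, eq_lst hd j h]
  · by_cases h : j.1 < d - 1
    · rw [Pi.add_apply, Pi.smul_apply, w0_y_of_lt j h, emb_y_of_lt _ j h, prj_y, smul_eq_mul,
        mul_zero, zero_add]
      rfl
    · rw [Pi.add_apply, Pi.smul_apply, w0_y_of_not_lt j h, emb_y_of_not_lt _ j h, prj_z2,
        smul_eq_mul, eq_lst hd j h]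
      rw [← bet_z2_sub_tc h2 hab hd w]
      ring

theorem emb_prj (h2 : (2 : F) ≠ 0) (hab : Aniso a b) (hd : 1 ≤ d) (w : I d → F)
    (h : tcL d F a b hd w = 0) : emb d F a b (prj d F a b hd w) = w := by
  have h1 := eq_smul_w0_add h2 hab hd w
  rw [h, zero_smul, zero_add] at h1
  exact h1.symm

theorem quadMinus_zero : Cfsg.quadFormMinus (d - 1) F a b 0 = 0 := by
  unfold Cfsg.quadFormMinus
  simp

theorem quadOdd_eq (h2 : (2 : F) ≠ 0) (hab : Aniso a b) (hd : 1 ≤ d) (w : I d → F) :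
    Cfsg.quadFormOdd d F w = -bet a b * tcL d F a b hd w ^ 2 +
      Cfsg.quadFormMinus (d - 1) F a b (prj d F a b hd w) := by
  rw [quadOdd_split hd]
  unfold Cfsg.quadFormMinus
  simp only [prj_x, prj_y, prj_z1, prj_z2]
  have e1 := tc_add_z2 h2 hab hd w
  have e2 := bet_z2_sub_tc h2 hab hd w
  have hc := two_hlf h2 a
  rw [← e1, ← e2]
  unfold bet
  linear_combination (w (Sum.inl ()) * z2L d F a b hd w - hlf a * z2L d F a b hd w ^ 2) * hc

/-- `polar Q_odd u w0 = -2 β tcL u` -/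
theorem polar_w0 (h2 : (2 : F) ≠ 0) (hab : Aniso a b) (hd : 1 ≤ d) (u : I d → F) :
    QuadraticMap.polar (Cfsg.quadFormOdd d F) u (w0 d F a b) =
      -(2 * bet a b) * tcL d F a b hd u := by
  unfold QuadraticMap.polar
  rw [quadOdd_eq h2 hab hd (u + w0 d F a b), quadOdd_eq h2 hab hd u,
    quadOdd_eq h2 hab hd (w0 d F a b), map_add, map_add, tc_w0 h2 hab, prj_w0, add_zero,
    quadMinus_zero]
  ring

/-! ## the extension `hat x` -/

/-- the linear map `w ↦ emb (x (prj w)) + tcL w • w0` -/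
def hatL (a b : F) (hd : 1 ≤ d) (x : Matrix (M d) (M d) F) : (I d → F) →ₗ[F] (I d → F) :=
  emb d F a b ∘ₗ Matrix.toLin' x ∘ₗ prj d F a b hd + (tcL d F a b hd).smulRight (w0 d F a b)

/-- the extension of `x` fixing `w0` -/
def hat (a b : F) (hd : 1 ≤ d) (x : Matrix (M d) (M d) F) : Matrix (I d) (I d) F :=
  LinearMap.toMatrix' (hatL a b hd x)

theorem hat_mulVec (hd : 1 ≤ d) (x : Matrix (M d) (M d) F) (w : I d → F) :
    hat a b hd x *ᵥ w =
      emb d F a b (x *ᵥ prj d F a b hd w) + tcL d F a b hd w • w0 d F a b := by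
  unfold hat
  rw [← Matrix.toLin'_apply, Matrix.toLin'_toMatrix']
  rfl

theorem prj_hat_mulVec (h2 : (2 : F) ≠ 0) (hab : Aniso a b) (hd : 1 ≤ d)
    (x : Matrix (M d) (M d) F) (w : I d → F) :
    prj d F a b hd (hat a b hd x *ᵥ w) = x *ᵥ prj d F a b hd w := by
  rw [hat_mulVec, map_add, map_smul, prj_emb h2 hab, prj_w0, smul_zero, add_zero]

theorem tc_hat_mulVec (h2 : (2 : F) ≠ 0) (hab : Aniso a b) (hd : 1 ≤ d)
    (x : Matrix (M d) (M d) F) (w : I d → F) :
    tcL d F a b hd (hat a b hd x *ᵥ w) = tcL d F a b hd w := by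
  rw [hat_mulVec, map_add, map_smul, tc_emb, tc_w0 h2 hab, zero_add, smul_eq_mul, mul_one]

theorem hat_mulVec_emb (h2 : (2 : F) ≠ 0) (hab : Aniso a b) (hd : 1 ≤ d)
    (x : Matrix (M d) (M d) F) (v : M d → F) :
    hat a b hd x *ᵥ emb d F a b v = emb d F a b (x *ᵥ v) := by
  rw [hat_mulVec, prj_emb h2 hab, tc_emb, zero_smul, add_zero]

theorem hat_mulVec_w0 (h2 : (2 : F) ≠ 0) (hab : Aniso a b) (hd : 1 ≤ d)
    (x : Matrix (M d) (M d) F) : hat a b hd x *ᵥ w0 d F a b = w0 d F a b := by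
  rw [hat_mulVec, prj_w0, Matrix.mulVec_zero, map_zero, zero_add, tc_w0 h2 hab, one_smul]

theorem mat_ext {A B : Matrix (I d) (I d) F} (h : ∀ w, A *ᵥ w = B *ᵥ w) : A = B := by
  apply Matrix.toLin'.injective
  apply LinearMap.ext
  intro w
  rw [Matrix.toLin'_apply, Matrix.toLin'_apply]
  exact h w

theorem hat_one (h2 : (2 : F) ≠ 0) (hab : Aniso a b) (hd : 1 ≤ d) :
    hat a b hd (1 : Matrix (M d) (M d) F) = 1 := by
  apply mat_ext
  intro w
  rw [hat_mulVec, Matrix.one_mulVec, Matrix.one_mulVec, add_comm]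
  exact (eq_smul_w0_add h2 hab hd w).symm

theorem hat_mul (h2 : (2 : F) ≠ 0) (hab : Aniso a b) (hd : 1 ≤ d)
    (x y : Matrix (M d) (M d) F) : hat a b hd (x * y) = hat a b hd x * hat a b hd y := by
  apply mat_ext
  intro w
  rw [← Matrix.mulVec_mulVec, hat_mulVec hd x, prj_hat_mulVec h2 hab, tc_hat_mulVec h2 hab,
    hat_mulVec hd (x * y), Matrix.mulVec_mulVec]

/-- `hat` as a group homomorphism -/
def hatG (h2 : (2 : F) ≠ 0) (hab : Aniso a b) (hd : 1 ≤ d) :
    Matrix.GeneralLinearGroup (M d) F →* Matrix.GeneralLinearGroup (I d) F where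
  toFun x := ⟨hat a b hd (x : Matrix (M d) (M d) F),
    hat a b hd ((x⁻¹ : Matrix.GeneralLinearGroup (M d) F) : Matrix (M d) (M d) F),
    by rw [← hat_mul h2 hab, Units.mul_inv, hat_one h2 hab],
    by rw [← hat_mul h2 hab, Units.inv_mul, hat_one h2 hab]⟩
  map_one' := by
    apply Units.ext
    exact hat_one h2 hab hd
  map_mul' := by
    intro x y
    apply Units.ext
    exact hat_mul h2 hab hd _ _

theorem coe_hatG (h2 : (2 : F) ≠ 0) (hab : Aniso a b) (hd : 1 ≤ d)
    (x : Matrix.GeneralLinearGroup (M d) F) :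
    ((hatG h2 hab hd x : Matrix.GeneralLinearGroup (I d) F) : Matrix (I d) (I d) F) =
      hat a b hd (x : Matrix (M d) (M d) F) := rfl

theorem hatG_mem (h2 : (2 : F) ≠ 0) (hab : Aniso a b) (hd : 1 ≤ d)
    (x : Matrix.GeneralLinearGroup (M d) F)
    (hx : x ∈ Cfsg.isometryGroup F (Cfsg.quadFormMinus (d - 1) F a b)) :
    hatG h2 hab hd x ∈ Cfsg.isometryGroup F (Cfsg.quadFormOdd d F) := by
  intro u v
  show Cfsg.quadFormOdd d F (hat a b hd (x : Matrix (M d) (M d) F) *ᵥ u) =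
    Cfsg.quadFormOdd d F u
  rw [quadOdd_eq h2 hab hd, quadOdd_eq h2 hab hd u, tc_hat_mulVec h2 hab, prj_hat_mulVec h2 hab]
  congr 1
  exact hx (prj d F a b hd u) (prj d F a b hd u)

theorem hatG_pow_eq_one (h2 : (2 : F) ≠ 0) (hab : Aniso a b) (hd : 1 ≤ d)
    (x : Matrix.GeneralLinearGroup (M d) F) (r : ℕ) (h : x ^ r = 1) :
    hatG h2 hab hd x ^ r = 1 := by
  rw [← map_pow, h, map_one]

/-! ## fixed spaces, nondegeneracy, stability -/

/-- fixed vectors of `hat x` -/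
theorem mem_Fx_hat (h2 : (2 : F) ≠ 0) (hab : Aniso a b) (hd : 1 ≤ d)
    (x : Matrix (M d) (M d) F) (w : I d → F) :
    w ∈ Fx (hat a b hd x) ↔ prj d F a b hd w ∈ FxM x := by
  rw [mem_Fx, mem_FxM]
  constructor
  · intro h
    have := congrArg (prj d F a b hd) h
    rwa [prj_hat_mulVec h2 hab] at this
  · intro h
    rw [hat_mulVec, h, add_comm]
    exact (eq_smul_w0_add h2 hab hd w).symm

theorem w0_mem_Fx_hat (h2 : (2 : F) ≠ 0) (hab : Aniso a b) (hd : 1 ≤ d)
    (x : Matrix (M d) (M d) F) : w0 d F a b ∈ Fx (hat a b hd x) := by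
  rw [mem_Fx]
  exact hat_mulVec_w0 h2 hab hd x

theorem emb_mem_Fx_hat (h2 : (2 : F) ≠ 0) (hab : Aniso a b) (hd : 1 ≤ d)
    (x : Matrix (M d) (M d) F) (v : M d → F) :
    emb d F a b v ∈ Fx (hat a b hd x) ↔ v ∈ FxM x := by
  rw [mem_Fx_hat h2 hab, prj_emb h2 hab]

/-- `Fix (hat x) = ⟨w0⟩ ⊕ emb (Fix x)` -/
theorem Fx_hat (h2 : (2 : F) ≠ 0) (hab : Aniso a b) (hd : 1 ≤ d) (x : Matrix (M d) (M d) F) :
    Fx (hat a b hd x) = Submodule.span F {w0 d F a b} ⊔ (FxM x).map (emb d F a b) := by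
  apply le_antisymm
  · intro w hw
    rw [eq_smul_w0_add h2 hab hd w]
    apply Submodule.add_mem_sup
    · exact Submodule.smul_mem _ _ (Submodule.subset_span rfl)
    · exact Submodule.mem_map_of_mem ((mem_Fx_hat h2 hab hd x w).mp hw)
  · apply sup_le
    · rw [Submodule.span_le]
      rintro _ rfl
      exact w0_mem_Fx_hat h2 hab hd x
    · rintro _ ⟨v, hv, rfl⟩
      exact (emb_mem_Fx_hat h2 hab hd x v).mpr hv

theorem finrank_map_emb (h2 : (2 : F) ≠ 0) (hab : Aniso a b) (hd : 1 ≤ d)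
    (W : Submodule F (M d → F)) :
    Module.finrank F ↥(W.map (emb d F a b)) = Module.finrank F ↥W :=
  (Submodule.equivMapOfInjective (emb d F a b) (emb_inj h2 hab hd) W).finrank_eq.symm

theorem span_w0_inf_map_emb (h2 : (2 : F) ≠ 0) (hab : Aniso a b) (hd : 1 ≤ d)
    (W : Submodule F (M d → F)) :
    Submodule.span F {w0 d F a b} ⊓ W.map (emb d F a b) = ⊥ := by
  rw [eq_bot_iff]
  rintro w ⟨h1, h2'⟩
  obtain ⟨c, rfl⟩ := Submodule.mem_span_singleton.mp h1
  obtain ⟨v, -, hv⟩ := h2'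
  have h3 := congrArg (tcL d F a b hd) hv
  rw [tc_emb, map_smul, tc_w0 h2 hab, smul_eq_mul, mul_one] at h3
  rw [← h3, zero_smul]
  exact Submodule.zero_mem _

theorem w0_ne_zero (h2 : (2 : F) ≠ 0) (hab : Aniso a b) (hd : 1 ≤ d) : w0 d F a b ≠ 0 := by
  intro h
  have h1 := tc_w0 h2 hab hd
  rw [h, map_zero] at h1
  exact zero_ne_one h1

/-- `dim Fix (hat x) = dim Fix x + 1` -/
theorem finrank_Fx_hat (h2 : (2 : F) ≠ 0) (hab : Aniso a b) (hd : 1 ≤ d)
    (x : Matrix (M d) (M d) F) :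
    Module.finrank F ↥(Fx (hat a b hd x)) = Module.finrank F ↥(FxM x) + 1 := by
  have h1 := Submodule.finrank_sup_add_finrank_inf_eq (Submodule.span F {w0 d F a b})
    ((FxM x).map (emb d F a b))
  rw [span_w0_inf_map_emb h2 hab hd, finrank_bot, add_zero, finrank_map_emb h2 hab hd] at h1
  rw [finrank_span_singleton (w0_ne_zero h2 hab hd)] at h1
  rw [Fx_hat h2 hab hd, h1, add_comm]

theorem ndeg_map_emb (h2 : (2 : F) ≠ 0) (hab : Aniso a b) (hd : 1 ≤ d)
    (W : Submodule F (M d → F)) :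
    NDeg d F (W.map (emb d F a b)) ↔ NDegM d F a b W := by
  constructor
  · intro h w hw hw0
    have hw0' : emb d F a b w ≠ 0 := fun h0 => hw0 (emb_inj h2 hab hd (by rw [h0, map_zero]))
    obtain ⟨⟨y, hy, hy0⟩, ⟨z, hz, hz0⟩⟩ := h (emb d F a b w) (Submodule.mem_map_of_mem hw) hw0'
    obtain ⟨y', hy', rfl⟩ := hy
    obtain ⟨z', hz', rfl⟩ := hz
    rw [polar_emb h2 hd] at hy0 hz0
    exact ⟨⟨y', hy', hy0⟩, ⟨z', hz', hz0⟩⟩
  · intro h w hw hw0
    obtain ⟨w', hw', rfl⟩ := hw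
    have hw0' : w' ≠ 0 := by
      rintro rfl
      exact hw0 (map_zero _)
    obtain ⟨⟨y, hy, hy0⟩, ⟨z, hz, hz0⟩⟩ := h w' hw' hw0'
    refine ⟨⟨emb d F a b y, Submodule.mem_map_of_mem hy, ?_⟩,
      ⟨emb d F a b z, Submodule.mem_map_of_mem hz, ?_⟩⟩
    · rw [polar_emb h2 hd]; exact hy0
    · rw [polar_emb h2 hd]; exact hz0

theorem stab_map_emb (h2 : (2 : F) ≠ 0) (hab : Aniso a b) (hd : 1 ≤ d)
    (x : Matrix (M d) (M d) F) (W : Submodule F (M d → F)) :
    Stab (hat a b hd x) (W.map (emb d F a b)) ↔ StabM x W := by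
  constructor
  · intro h v hv
    obtain ⟨w, hw, rfl⟩ := hv
    have h1 : Matrix.toLin' (hat a b hd x) (emb d F a b w) ∈ W.map (emb d F a b) :=
      h (Submodule.mem_map_of_mem (Submodule.mem_map_of_mem hw))
    rw [Matrix.toLin'_apply, hat_mulVec_emb h2 hab] at h1
    obtain ⟨w', hw', hw'e⟩ := h1
    rw [Matrix.toLin'_apply, ← emb_inj h2 hab hd hw'e]
    exact hw'
  · intro h v hv
    obtain ⟨v', hv', rfl⟩ := hv
    obtain ⟨w, hw, rfl⟩ := hv'
    rw [Matrix.toLin'_apply, hat_mulVec_emb h2 hab]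
    apply Submodule.mem_map_of_mem
    have h1 : Matrix.toLin' x w ∈ W := h (Submodule.mem_map_of_mem hw)
    rw [Matrix.toLin'_apply] at h1
    exact h1

theorem map_emb_inf_Fx (h2 : (2 : F) ≠ 0) (hab : Aniso a b) (hd : 1 ≤ d)
    (x : Matrix (M d) (M d) F) (W : Submodule F (M d → F)) :
    W.map (emb d F a b) ⊓ Fx (hat a b hd x) = (W ⊓ FxM x).map (emb d F a b) := by
  ext w
  constructor
  · rintro ⟨⟨v, hv, rfl⟩, h2'⟩
    exact Submodule.mem_map_of_mem ⟨hv, (emb_mem_Fx_hat h2 hab hd x v).mp h2'⟩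
  · rintro ⟨v, ⟨hv1, hv2⟩, rfl⟩
    exact ⟨Submodule.mem_map_of_mem hv1, (emb_mem_Fx_hat h2 hab hd x v).mpr hv2⟩

/-- a subspace of the odd space with vanishing `w0`-coordinate comes from the minus space -/
theorem map_comap_emb (h2 : (2 : F) ≠ 0) (hab : Aniso a b) (hd : 1 ≤ d)
    (E : Submodule F (I d → F)) (hE : ∀ u ∈ E, tcL d F a b hd u = 0) :
    (E.comap (emb d F a b)).map (emb d F a b) = E := by
  ext w
  constructor
  · rintro ⟨v, hv, rfl⟩
    exact hv
  · intro hw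
    refine ⟨prj d F a b hd w, ?_, emb_prj h2 hab hd w (hE w hw)⟩
    show emb d F a b (prj d F a b hd w) ∈ E
    rw [emb_prj h2 hab hd w (hE w hw)]
    exact hw

/-- a vector orthogonal to `w0` has vanishing `w0`-coordinate -/
theorem inl_eq_zero_of_polar (h2 : (2 : F) ≠ 0) (hab : Aniso a b) (hd : 1 ≤ d) (u : I d → F)
    (h : QuadraticMap.polar (Cfsg.quadFormOdd d F) u (w0 d F a b) = 0) :
    tcL d F a b hd u = 0 := by
  rw [polar_w0 h2 hab hd] at h
  exact (mul_eq_zero.mp h).resolve_left (neg_ne_zero.mpr (two_bet_ne_zero h2 hab))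

/-- the image of `emb` is the set of vectors with vanishing `w0`-coordinate -/
theorem mem_range_emb (h2 : (2 : F) ≠ 0) (hab : Aniso a b) (hd : 1 ≤ d) (w : I d → F) :
    w ∈ LinearMap.range (emb d F a b) ↔ tcL d F a b hd w = 0 := by
  constructor
  · rintro ⟨v, rfl⟩
    exact tc_emb hd v
  · intro h
    exact ⟨prj d F a b hd w, emb_prj h2 hab hd w h⟩

end Cfsg.Agent.Lib.Helper24.OMiEmb
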