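import Mathlib
import Cfsg.Agent.Lib.Helper24.R3Stmt
import Cfsg.Agent.Lib.Helper36.ChevUD4

/-!
# S1788, piece TWD4: the twisted group `³D₄(q)`, `q` even, has 2-rank at least 3.

The elements `x_{p₁}(t) x_{p₃}(t^q) x_{p₄}(t^{q²})` (`t ∈ K`) form an elementary abelian subgroup
of order `|K| = q³ ≥ 8`.
-/

set_option autoImplicit false

namespace Cfsg.Agent.Lib.Helper24.R3TWD4

open Cfsg Cfsg.Lie Cfsg.Agent.Lib.Helper36.ChevU Cfsg.Agent.Lib.Helper36.ChevGen
  Cfsg.Agent.Lib.Helper36.ChevSound Cfsg.Agent.Lib.Helper36.ChevComm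

theorem ct1 : chevD4.commTerms 12 13 = [] := by decide +kernel
theorem ct2 : chevD4.commTerms 12 18 = [] := by decide +kernel
theorem ct3 : chevD4.commTerms 13 18 = [] := by decide +kernel

theorem nr : chevD4.nroots = 24 := by decide +kernel
theorem ng12 : chevD4.neg 12 = 11 := by decide +kernel
theorem ng13 : chevD4.neg 13 = 10 := by decide +kernel

section

variable {K : Type} [Field K]

theorem comm_of (U : UFacts chevD4 K) (r s : ℕ) (hr : r < chevD4.nroots)
    (hs : s < chevD4.nroots) (h1 : s ≠ r) (h2 : s ≠ chevD4.neg r)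
    (h : chevD4.commTerms r s = []) (t u : K) :
    Commute (xU chevD4 U.inv r t) (xU chevD4 U.inv s u) := by
  have h3 := U.comm r s hr hs h1 h2 t u
  unfold ChevalleyDatum.commWord at h3
  rw [h, List.map_nil, wordMat_nil, mul_one] at h3
  apply Units.ext
  rw [Units.val_mul, Units.val_mul, xU_val, xU_val]
  exact h3.symm

end

theorem main : Cfsg.Agent.Lib.Helper24.R3Stmt.RTwD4 := by
  intro K _ _ _ q hq hK
  have U : UFacts chevD4 K := Cfsg.Agent.Lib.Helper36.ChevUD4.facts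
  obtain ⟨k, rfl⟩ : ∃ k, q = 2 ^ k := by
    obtain ⟨n, -, hn⟩ := FiniteField.card K 2
    have hdvd : q ∣ 2 ^ (n : ℕ) := by
      rw [← hn, hK]
      exact dvd_pow_self q (by norm_num)
    obtain ⟨j, -, rfl⟩ := (Nat.dvd_prime_pow Nat.prime_two).1 hdvd
    exact ⟨j, rfl⟩
  have hk : 1 ≤ k := by
    by_contra hlt
    have hk0 : k = 0 := by omega
    subst hk0
    have h1c : 1 < Fintype.card K := Fintype.one_lt_card
    rw [hK] at h1c
    norm_num at h1c
  haveI : Fact (Nat.Prime 2) := ⟨Nat.prime_two⟩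
  have hfrob : ∀ a b : K, (a + b) ^ (2 ^ k) = a ^ (2 ^ k) + b ^ (2 ^ k) :=
    fun a b => add_pow_char_pow a b 2 k
  have hfrob2 : ∀ a b : K, (a + b) ^ ((2 ^ k) ^ 2) = a ^ ((2 ^ k) ^ 2) + b ^ ((2 ^ k) ^ 2) := by
    intro a b
    rw [← pow_mul]
    exact add_pow_char_pow a b 2 (k * 2)
  let X : ℕ → K → GL chevD4.Idx K := fun r t => xU chevD4 U.inv r t
  have hXv : ∀ r t, ((X r t : GL chevD4.Idx K) : Matrix chevD4.Idx chevD4.Idx K) =
      chevD4.x K r t := fun r t => rfl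
  have hXadd : ∀ r a b, X r a * X r b = X r (a + b) := fun r a b => xU_add chevD4 U.inv U.add r a b
  have hX0 : ∀ r, X r 0 = 1 := fun r => xU_zero chevD4 U.inv U.add r
  have hC1 : ∀ t u, Commute (X 12 t) (X 13 u) := fun t u =>
    comm_of U 12 13 (by rw [nr]; norm_num) (by rw [nr]; norm_num) (by norm_num)
      (by rw [ng12]; norm_num) ct1 t u
  have hC2 : ∀ t u, Commute (X 12 t) (X 18 u) := fun t u =>
    comm_of U 12 18 (by rw [nr]; norm_num) (by rw [nr]; norm_num) (by norm_num)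
      (by rw [ng12]; norm_num) ct2 t u
  have hC3 : ∀ t u, Commute (X 13 t) (X 18 u) := fun t u =>
    comm_of U 13 18 (by rw [nr]; norm_num) (by rw [nr]; norm_num) (by norm_num)
      (by rw [ng13]; norm_num) ct3 t u
  -- membership
  have hP : ∀ t : K, X 18 t * (X 13 (t ^ 2 ^ k) * X 12 (t ^ (2 ^ k) ^ 2)) ∈
      twistedD4 K (2 ^ k) := by
    intro t
    refine Subgroup.subset_closure ⟨[(18, t), (13, t ^ 2 ^ k), (12, t ^ (2 ^ k) ^ 2)],
      Or.inr ⟨t, (d4p1, d4p3, d4p4), ?_, rfl⟩, ?_⟩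
    · simp
    · rw [wordMat_cons, wordMat_cons, wordMat_cons, wordMat_nil, mul_one, Units.val_mul,
        Units.val_mul, hXv, hXv, hXv]
  let f : K → ↥(twistedD4 K (2 ^ k)) := fun t =>
    ⟨X 18 t * (X 13 (t ^ 2 ^ k) * X 12 (t ^ (2 ^ k) ^ 2)), hP t⟩
  have hf : ∀ t, ((f t : ↥(twistedD4 K (2 ^ k))) : GL chevD4.Idx K) =
      X 18 t * (X 13 (t ^ 2 ^ k) * X 12 (t ^ (2 ^ k) ^ 2)) := fun t => rfl
  have hf_mul : ∀ t t', f t * f t' = f (t + t') := by
    intro t t'
    apply Subtype.ext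
    rw [Subgroup.coe_mul, hf, hf, hf]
    have e1 : Commute (X 13 (t ^ 2 ^ k) * X 12 (t ^ (2 ^ k) ^ 2)) (X 18 t') :=
      ((hC3 _ _).mul_left (hC2 _ _))
    rw [e1.mul_mul_mul_comm, (hC1 _ _).mul_mul_mul_comm, hXadd, hXadd, hXadd, hfrob, hfrob2]
  have hf_zero : f 0 = 1 := by
    apply Subtype.ext
    rw [hf, zero_pow (by positivity), zero_pow (by positivity), hX0, hX0, hX0]
    simp
  have hpp : ∀ t : K, t + t = 0 := fun t => CharTwo.add_self_eq_zero t
  have hx0 : ∀ r, chevD4.x K r 0 = 1 := by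
    intro r
    have := hX0 r
    rw [← hXv, this]
    rfl
  have hf_one : ∀ t, f t = 1 → t = 0 := by
    intro t hp
    have h1 : X 18 t * (X 13 (t ^ 2 ^ k) * X 12 (t ^ (2 ^ k) ^ 2)) = 1 := by
      have := congrArg Subtype.val hp
      rw [hf] at this
      exact this
    have h2 : X 12 (t ^ (2 ^ k) ^ 2) * (X 13 (t ^ 2 ^ k) * X 18 t) = 1 := by
      calc X 12 (t ^ (2 ^ k) ^ 2) * (X 13 (t ^ 2 ^ k) * X 18 t)
          = X 12 (t ^ (2 ^ k) ^ 2) * (X 18 t * X 13 (t ^ 2 ^ k)) := by rw [(hC3 _ _).eq]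
        _ = (X 18 t * X 13 (t ^ 2 ^ k)) * X 12 (t ^ (2 ^ k) ^ 2) :=
            ((hC2 _ _).mul_right (hC1 _ _)).eq
        _ = X 18 t * (X 13 (t ^ 2 ^ k) * X 12 (t ^ (2 ^ k) ^ 2)) := mul_assoc _ _ _
        _ = 1 := h1
    let τ : ℕ → K := fun r => if r = 12 then t ^ (2 ^ k) ^ 2 else if r = 13 then t ^ 2 ^ k else t
    have h3 : chevD4.wordMat K ([12, 13, 18].map fun r => (r, τ r)) =
        chevD4.wordMat K ([12, 13, 18].map fun r => (r, (0 : K))) := by
      simp only [List.map_cons, List.map_nil]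
      rw [wordMat_cons, wordMat_cons, wordMat_cons, wordMat_nil, wordMat_cons, wordMat_cons,
        wordMat_cons, wordMat_nil, hx0, hx0, hx0, mul_one, mul_one, mul_one]
      have := congrArg (fun g : GL chevD4.Idx K => (g : Matrix chevD4.Idx chevD4.Idx K)) h2
      simp only [Units.val_mul, Units.val_one, hXv] at this
      simpa [τ] using this
    have h4 := unique_aux chevD4 U.inv U.even U.neg U.tri U.cor [12, 13, 18] (by simp)
      (by
        intro r hr
        rw [nr]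
        simp only [List.mem_cons, List.mem_nil_iff, or_false] at hr
        rcases hr with rfl | rfl | rfl <;> norm_num) τ (fun _ => 0) h3
    have := h4 18 (by simp)
    simpa [τ] using this
  apply Cfsg.Agent.Lib.Helper24.R3Stmt.pRank_of_map 3 f
  · intro p p' h
    have h1 : f (p + p') = 1 := by rw [← hf_mul, h, hf_mul, hpp, hf_zero]
    have h2 := hf_one _ h1
    have h3 : p = p + (p' + p') := by rw [hpp, add_zero]
    rw [h3, ← add_assoc, h2, zero_add]
  · rw [Nat.card_eq_fintype_card, hK]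
    have h2 : 2 ≤ 2 ^ k := by
      calc 2 = 2 ^ 1 := by norm_num
        _ ≤ 2 ^ k := Nat.pow_le_pow_right (by norm_num) hk
    exact Nat.pow_le_pow_left h2 3
  · exact ⟨0, hf_zero⟩
  · intro i j
    exact ⟨i + j, hf_mul i j⟩
  · intro i j
    rw [hf_mul, hf_mul, add_comm]
  · intro i
    rw [pow_two, hf_mul, hpp, hf_zero]

end Cfsg.Agent.Lib.Helper24.R3TWD4
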