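import Mathlib
import Cfsg.Agent.Lib.Helper23.S64Stmt

set_option autoImplicit false

namespace Cfsg.Agent.Lib.Helper24.S64CYCHALL

open Cfsg.Agent.Lib.Helper23.S64Stmt

universe u

theorem main : CycHall.{u} := by
  intro X _ _ N hN hcyc hcop
  haveI := hN
  haveI := hcyc
  have hDc : ∀ d ∈ ⁅(⊤ : Subgroup X), (⊤ : Subgroup X)⁆, ∀ z ∈ N, d * z = z * d := by
    intro d hd z hz
    let f : X →* (ZMod (Nat.card N))ˣ :=
      (IsCyclic.mulAutMulEquiv ↥N).toMonoidHom.comp (MulAut.conjNormal (H := N))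
    have hker : commutator X ≤ f.ker := Abelianization.commutator_subset_ker f
    have hd' : d ∈ f.ker := hker hd
    rw [MonoidHom.mem_ker] at hd'
    have h1 : MulAut.conjNormal (H := N) d = 1 := by
      apply (IsCyclic.mulAutMulEquiv ↥N).injective
      rw [map_one]
      exact hd'
    have h2 := congrArg (fun σ : MulAut ↥N => ((σ ⟨z, hz⟩ : ↥N) : X)) h1
    simp only [MulAut.conjNormal_apply, MulAut.one_apply] at h2
    exact mul_inv_eq_iff_eq_mul.mp h2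
  rw [eq_bot_iff]
  intro z hz
  rw [Subgroup.mem_bot]
  obtain ⟨hzN, hzDD⟩ := hz
  have hzDD' : z ∈ ⁅⁅(⊤ : Subgroup X), (⊤ : Subgroup X)⁆, ⁅(⊤ : Subgroup X), (⊤ : Subgroup X)⁆⁆ :=
    hzDD
  rw [← Subgroup.map_subtype_commutator ⁅(⊤ : Subgroup X), (⊤ : Subgroup X)⁆] at hzDD'
  obtain ⟨z', hz', rfl⟩ := hzDD'
  have hker : commutator ↥⁅(⊤ : Subgroup X), (⊤ : Subgroup X)⁆ ≤
      (MonoidHom.transferCenterPow ↥⁅(⊤ : Subgroup X), (⊤ : Subgroup X)⁆).ker := by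
    rw [commutator_def, Subgroup.commutator_le]
    intro g₁ _ g₂ _
    rw [MonoidHom.mem_ker, map_commutatorElement, commutatorElement_eq_one_iff_commute]
    have hc := (MonoidHom.transferCenterPow ↥⁅(⊤ : Subgroup X), (⊤ : Subgroup X)⁆ g₂).2
    rw [Subgroup.mem_center_iff] at hc
    exact Subtype.ext (hc _)
  have h1 := hker hz'
  rw [MonoidHom.mem_ker] at h1
  have h2 : z' ^ (Subgroup.center ↥⁅(⊤ : Subgroup X), (⊤ : Subgroup X)⁆).index = 1 := by
    have h := congrArg Subtype.val h1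
    rw [MonoidHom.transferCenterPow_apply] at h
    exact h
  have h3 : (⁅(⊤ : Subgroup X), (⊤ : Subgroup X)⁆.subtype z') ^
      (Subgroup.center ↥⁅(⊤ : Subgroup X), (⊤ : Subgroup X)⁆).index = 1 := by
    rw [← map_pow, h2, map_one]
  have hle : (N ⊓ ⁅(⊤ : Subgroup X), (⊤ : Subgroup X)⁆).subgroupOf
      ⁅(⊤ : Subgroup X), (⊤ : Subgroup X)⁆ ≤
      Subgroup.center ↥⁅(⊤ : Subgroup X), (⊤ : Subgroup X)⁆ := by
    intro w hw
    rw [Subgroup.mem_subgroupOf] at hw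
    rw [Subgroup.mem_center_iff]
    intro d
    apply Subtype.ext
    exact hDc d.1 d.2 w.1 hw.1
  have hdvd : (Subgroup.center ↥⁅(⊤ : Subgroup X), (⊤ : Subgroup X)⁆).index ∣ N.index := by
    have h4 := Subgroup.index_dvd_of_le hle
    have h5 : ((N ⊓ ⁅(⊤ : Subgroup X), (⊤ : Subgroup X)⁆).subgroupOf
        ⁅(⊤ : Subgroup X), (⊤ : Subgroup X)⁆).index =
        N.relIndex ⁅(⊤ : Subgroup X), (⊤ : Subgroup X)⁆ := Subgroup.inf_relIndex_right _ _
    rw [h5] at h4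
    exact h4.trans (Subgroup.relIndex_dvd_index_of_normal _ _)
  have ho1 : orderOf (⁅(⊤ : Subgroup X), (⊤ : Subgroup X)⁆.subtype z') ∣ N.index :=
    (orderOf_dvd_of_pow_eq_one h3).trans hdvd
  have ho2 : orderOf (⁅(⊤ : Subgroup X), (⊤ : Subgroup X)⁆.subtype z') ∣ Nat.card N :=
    Subgroup.orderOf_dvd_natCard N hzN
  have ho3 := Nat.dvd_gcd ho2 ho1
  rw [hcop.gcd_eq_one] at ho3
  exact orderOf_eq_one_iff.mp (Nat.dvd_one.mp ho3)

end Cfsg.Agent.Lib.Helper24.S64CYCHALL
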